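import Groth.Agent.GrModLib6.Map
import Groth.Agent.GrModLib6.Twist
import Groth.Agent.MiscFlat6.RelTwist
import Groth.Agent.QCohLib.SerreCrit
import Groth.Agent.QRlimLib.Unbounded
import Groth.Prelude.Def_RelProj3

/-!
# The modules on a relative Proj attached to graded modules: quasi-coherence and exactness
-/

set_option autoImplicit false
universe u
open CategoryTheory CategoryTheory.Limits AlgebraicGeometry TopologicalSpace Opposite

noncomputable section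

namespace GrModLib6

/-! ## Sheaf criteria -/

theorem mono_of_app_injective {X : Scheme.{u}} {F G : X.Modules} (φ : F ⟶ G)
    (h : ∀ V : X.Opens, Function.Injective (φ.app V)) : Mono φ :=
  ⟨fun g g' e => Scheme.Modules.hom_ext _ _ fun V => ConcreteCategory.hom_ext _ _ fun x =>
    h V (congrArg (fun ψ => ψ.app V x) e)⟩

theorem eq_zero_of_locally {X : Scheme.{u}} {F : X.Modules} {V : X.Opens} (s : Γ(F, V))
    (h : ∀ x ∈ V, ∃ (W : X.Opens) (hle : W ≤ V), x ∈ W ∧ F.presheaf.map (homOfLE hle).op s = 0) : s = 0 := by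
  choose W hle hxW hW using fun x : V => h x.1 x.2
  refine TopCat.Sheaf.eq_of_locally_eq' ((QCohLib.toAbF X).obj F : TopCat.Sheaf AddCommGrpCat _) W V
    (fun x => homOfLE (hle x)) (fun x hx => Opens.mem_iSup.mpr ⟨⟨x, hx⟩, hxW ⟨x, hx⟩⟩) s 0 fun x => ?_
  exact (hW x).trans (map_zero _).symm

theorem exact_of_locally_lift {X : Scheme.{u}} {F G H : X.Modules} (φ : F ⟶ G) (ψ : G ⟶ H) (w : φ ≫ ψ = 0)
    (h : ∀ (V : X.Opens) (t : Γ(G, V)), ψ.app V t = 0 → ∀ x ∈ V, ∃ (W : X.Opens) (hle : W ≤ V), x ∈ W ∧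
      ∃ s, φ.app W s = G.presheaf.map (homOfLE hle).op t) : (ShortComplex.mk φ ψ w).Exact := by
  rw [ShortComplex.exact_iff_epi_kernel_lift]
  refine QCohLib.epi_of_surjective_on_affines _ fun V k x hx => ?_
  obtain ⟨W, hle, hxW, s, hs⟩ := h V ((kernel.ι ψ).app V k)
    (congrArg (fun θ => θ.app V k) (kernel.condition ψ)) x hx
  refine ⟨W, hle, hxW, s, QCohLib.app_injective_of_mono (kernel.ι ψ) W ?_⟩
  refine Eq.trans ?_ ((hs.trans ?_))
  · exact congrArg (fun θ => θ.app W s) (kernel.lift_ι ψ φ w)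
  · exact (QCohLib.app_map (kernel.ι ψ) (homOfLE hle) k).symm

theorem isQCoh_of_restrict_cover {X : Scheme.{u}} (M : X.Modules)
    (h : ∀ x : X, ∃ (Z : Scheme.{u}) (j : Z ⟶ X) (_ : IsOpenImmersion j), x ∈ j.opensRange ∧
      Coh.IsQCoh (M.restrict j)) : Coh.IsQCoh M := by
  choose Z j hj hx hM using h
  refine QCohLib.isQCoh_of_cover M (fun x => (j x).opensRange)
    (eq_top_iff.mpr fun x _ => Opens.mem_iSup.mpr ⟨x, hx x⟩) fun x => ?_
  haveI := hj x
  let e : ((j x).opensRange : Scheme.{u}) ⟶ Z x :=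
    IsOpenImmersion.lift (j x) (j x).opensRange.ι (by rw [Scheme.Opens.range_ι]; exact subset_rfl)
  have he : e ≫ j x = (j x).opensRange.ι := IsOpenImmersion.lift_fac _ _ _
  haveI : IsOpenImmersion e := by
    haveI : IsOpenImmersion (e ≫ j x) := by rw [he]; infer_instance
    exact IsOpenImmersion.of_comp e (j x)
  haveI := hM x
  haveI : Coh.IsQCoh ((Scheme.Modules.restrictFunctor e).obj (M.restrict (j x))) := inferInstance
  exact @QCohLib.isQCoh_of_iso _ _ _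
    ((Scheme.Modules.restrictFunctorComp e (j x)).symm.app M ≪≫
      (Scheme.Modules.restrictFunctorCongr he).app M) this

open scoped Classical in
theorem exists_pos_basicOpen {A σ : Type u} [CommRing A] [SetLike σ A] [AddSubgroupClass σ A] (𝒜 : ℕ → σ)
    [GradedRing 𝒜] {V : (Proj 𝒜).Opens} {x : Proj 𝒜} (hx : x ∈ V) :
    ∃ (d : ℕ) (g : A), 0 < d ∧ g ∈ 𝒜 d ∧ x ∈ Proj.basicOpen 𝒜 g ∧ Proj.basicOpen 𝒜 g ≤ V := by
  obtain ⟨_, ⟨f, rfl⟩, hxf, hfV⟩ := (ProjectiveSpectrum.isTopologicalBasis_basic_opens 𝒜).exists_subset_of_mem_open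
    hx V.2
  have hxf' : x ∈ ProjectiveSpectrum.basicOpen 𝒜 f := hxf
  have hsub : ∀ z, z ∈ ProjectiveSpectrum.basicOpen 𝒜 f → z ∈ V := fun z hz => hfV hz
  rw [ProjectiveSpectrum.basicOpen_eq_union_of_projection] at hxf' hsub
  obtain ⟨i, hi⟩ := Opens.mem_iSup.mp hxf'
  obtain ⟨d, g, hd, hg, hgx⟩ := exists_pos_not_mem 𝒜 x
  refine ⟨i + d, (DirectSum.decompose 𝒜 f i : A) * g, by omega, SetLike.mul_mem_graded (SetLike.coe_mem _) hg,
    fun h => (x.isPrime.mem_or_mem h).elim ?_ hgx, fun z hz => ?_⟩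
  · rw [GradedRing.proj_apply] at hi; exact hi
  · refine hsub z (Opens.mem_iSup.mpr ⟨i, fun hz' => hz ?_⟩)
    rw [GradedRing.proj_apply] at hz'
    exact Ideal.mul_mem_right _ _ hz'

/-! ## Charts -/

/-- a homomorphism of `𝒮`-modules over an open, as a linear map of the modules of sections -/
abbrev secHom {S : Scheme.{u}} {𝒮 : RelProj.QCGrAlg S} {ℳ 𝒩 : RelProj.GrModule 𝒮} (u : ℳ.mod ⟶ 𝒩.mod)
    (U : S.Opens) : ℳ.mod.val.obj (op U) →ₗ[𝒮.presheaf.obj (op U)] 𝒩.mod.val.obj (op U) :=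
  (u.val.app (op U)).hom

variable {S P : Scheme.{u}} {𝒮 : RelProj.QCGrAlg S} {p : P ⟶ S}
  {chart : ∀ (U : S.Opens) (hU : IsAffineOpen U), (((p ⁻¹ᵁ U : P.Opens) : Scheme.{u}) ≅ Proj (𝒮.deg U hU))}
  {n : ℤ}

theorem exists_chart_open (x : P) : ∃ (U : S.Opens) (_ : IsAffineOpen U), x ∈ p ⁻¹ᵁ U := by
  obtain ⟨U, hU, hxU, -⟩ := exists_isAffineOpen_mem_and_subset (TopologicalSpace.Opens.mem_top (p x))
  exact ⟨U, hU, hxU⟩

section

variable {ℳ : RelProj.GrModule 𝒮} {F : P.Modules}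
  {lam : ∀ (U : S.Opens) (hU : IsAffineOpen U),
    F ⟶ (Scheme.Modules.pushforward (RelProj.emb p chart U hU)).obj (GrMod.tilde (𝒮.deg U hU) (ℳ.deg U hU) n)}

theorem isQCoh_relTilde (hF : RelProj.IsRelTilde 𝒮 p chart ℳ n F lam) : Coh.IsQCoh F := by
  refine isQCoh_of_restrict_cover F fun x => ?_
  obtain ⟨U, hU, hx⟩ := exists_chart_open (p := p) x
  let e := RelProj.emb p chart U hU
  refine ⟨_, e, inferInstance, (MiscFlat6.emb_opensRange U hU).ge hx, ?_⟩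
  let φ : F.restrict e ⟶ GrMod.tilde (𝒮.deg U hU) (ℳ.deg U hU) n :=
    ((Scheme.Modules.restrictAdjunction e).homEquiv _ _).symm (lam U hU)
  have happ : ∀ (W : (Proj (𝒮.deg U hU)).Opens) (z : Γ(F, e ''ᵁ W)),
      φ.app W z = (GrMod.tilde (𝒮.deg U hU) (ℳ.deg U hU) n).presheaf.map
        (eqToHom (e.preimage_image_eq W).symm).op ((lam U hU).app (e ''ᵁ W) z) := fun W z => by
    simp only [φ, Adjunction.homEquiv_counit]
    rfl
  haveI : IsIso φ := QCohLib.isIso_of_bijective_affine φ fun W _ => by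
    have hb1 := hF.bijective U hU (e ''ᵁ W) ((e.image_le_opensRange W).trans (MiscFlat6.emb_opensRange U hU).le)
    have hb2 : Function.Bijective ((GrMod.tilde (𝒮.deg U hU) (ℳ.deg U hU) n).presheaf.map
        (eqToHom (e.preimage_image_eq W).symm).op) := ConcreteCategory.bijective_of_isIso _
    exact (funext (happ W)) ▸ hb2.comp hb1
  haveI := isQCoh_tilde (𝒜 := 𝒮.deg U hU) (ℳ := ℳ.deg U hU) n
  exact @QCohLib.isQCoh_of_iso _ _ _ (asIso φ).symm inferInstance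

theorem relTilde_eq_zero (hF : RelProj.IsRelTilde 𝒮 p chart ℳ n F lam) {V : P.Opens} (s : Γ(F, V))
    (h : ∀ (U : S.Opens) (hU : IsAffineOpen U) (t : Γ(F, V ⊓ p ⁻¹ᵁ U)),
      t = F.presheaf.map (homOfLE inf_le_left).op s → (lam U hU).app _ t = 0) : s = 0 := by
  refine eq_zero_of_locally s fun x hx => ?_
  obtain ⟨U, hU, hxU⟩ := exists_chart_open (p := p) x
  refine ⟨V ⊓ p ⁻¹ᵁ U, inf_le_left, ⟨hx, hxU⟩, (hF.bijective U hU _ inf_le_right).1 ?_⟩
  rw [map_zero]; exact h U hU _ rfl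

theorem isZero_relTilde (hF : RelProj.IsRelTilde 𝒮 p chart ℳ n F lam) (hTN : ℳ.IsTN) : IsZero F := by
  obtain ⟨n₀, h⟩ := hTN
  rw [IsZero.iff_id_eq_zero]
  exact Scheme.Modules.hom_ext _ _ fun V => ConcreteCategory.hom_ext _ _ fun s =>
    relTilde_eq_zero hF s fun U hU t _ => val_eq_zero_of_tn (h U hU) _

variable {𝒩 : RelProj.GrModule 𝒮} {G : P.Modules}
  {lam' : ∀ (U : S.Opens) (hU : IsAffineOpen U),
    G ⟶ (Scheme.Modules.pushforward (RelProj.emb p chart U hU)).obj (GrMod.tilde (𝒮.deg U hU) (𝒩.deg U hU) n)}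
  {u : ℳ.mod ⟶ 𝒩.mod} {hu : RelProj.IsGrModHom u} {ut : F ⟶ G}

variable (hu) in
/-- `ut` is read as `GrMod.map` in the charts -/
def IsInduced (lam : ∀ (U : S.Opens) (hU : IsAffineOpen U),
      F ⟶ (Scheme.Modules.pushforward (RelProj.emb p chart U hU)).obj (GrMod.tilde (𝒮.deg U hU) (ℳ.deg U hU) n))
    (lam' : ∀ (U : S.Opens) (hU : IsAffineOpen U),
      G ⟶ (Scheme.Modules.pushforward (RelProj.emb p chart U hU)).obj (GrMod.tilde (𝒮.deg U hU) (𝒩.deg U hU) n))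
    (ut : F ⟶ G) : Prop :=
  ∀ (U : S.Opens) (hU : IsAffineOpen U),
    ut ≫ lam' U hU =
      lam U hU ≫ (Scheme.Modules.pushforward (RelProj.emb p chart U hU)).map
        (GrMod.map (𝒮.deg U hU)
          (show ℳ.mod.val.obj (op U) →ₗ[𝒮.presheaf.obj (op U)] 𝒩.mod.val.obj (op U) from (u.val.app (op U)).hom)
          (hu U hU) n)

theorem induced_app (hut : IsInduced hu lam lam' ut) (U : S.Opens) (hU : IsAffineOpen U) (W : P.Opens)
    (s : Γ(F, W)) :
    (lam' U hU).app W (ut.app W s) = (GrMod.map (𝒮.deg U hU)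
      (show ℳ.mod.val.obj (op U) →ₗ[𝒮.presheaf.obj (op U)] 𝒩.mod.val.obj (op U) from (u.val.app (op U)).hom)
      (hu U hU) n).app (RelProj.emb p chart U hU ⁻¹ᵁ W) ((lam U hU).app W s) :=
  congrArg (fun θ => θ.app W s) (hut U hU)

theorem mono_relTilde_map (hF : RelProj.IsRelTilde 𝒮 p chart ℳ n F lam)
    (hut : IsInduced hu lam lam' ut) {n₀ : ℕ}
    (hinj : ∀ (U : S.Opens) (hU : IsAffineOpen U) (k : ℕ), n₀ ≤ k →
      ∀ m ∈ ℳ.deg U hU k, (u.val.app (op U)).hom m = 0 → m = 0) : Mono ut := by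
  refine mono_of_app_injective ut fun V a b hab => sub_eq_zero.mp (relTilde_eq_zero hF (a - b) fun U hU t ht => ?_)
  refine map_injective (secHom u U) (hu U hU) (hinj U hU) _ ?_
  rw [← induced_app hut, ht, QCohLib.app_map, map_sub, hab, sub_self, map_zero]
  exact map_zero _

theorem exists_lift_of_chart (hF : RelProj.IsRelTilde 𝒮 p chart ℳ n F lam)
    (hG : RelProj.IsRelTilde 𝒮 p chart 𝒩 n G lam')
    (hut : IsInduced hu lam lam' ut) (U : S.Opens) (hU : IsAffineOpen U) {V : P.Opens} (t : Γ(G, V))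
    {W' : (Proj (𝒮.deg U hU)).Opens} (hW' : W' ≤ RelProj.emb p chart U hU ⁻¹ᵁ V)
    (s : Γ(GrMod.tilde (𝒮.deg U hU) (ℳ.deg U hU) n, W'))
    (hs : (GrMod.map (𝒮.deg U hU)
        (show ℳ.mod.val.obj (op U) →ₗ[𝒮.presheaf.obj (op U)] 𝒩.mod.val.obj (op U) from (u.val.app (op U)).hom)
        (hu U hU) n).app W' s =
      (GrMod.tilde (𝒮.deg U hU) (𝒩.deg U hU) n).presheaf.map (homOfLE hW').op ((lam' U hU).app V t)) :
    ∃ (W : P.Opens) (hle : W ≤ V), W = RelProj.emb p chart U hU ''ᵁ W' ∧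
      ∃ s', ut.app W s' = G.presheaf.map (homOfLE hle).op t := by
  let e := RelProj.emb p chart U hU
  have hle : e ''ᵁ W' ≤ V := by
    rintro _ ⟨z, hz, rfl⟩
    exact hW' hz
  have hWU : e ''ᵁ W' ≤ p ⁻¹ᵁ U := (e.image_le_opensRange W').trans (MiscFlat6.emb_opensRange U hU).le
  have hpre : e ⁻¹ᵁ (e ''ᵁ W') ≤ W' := (e.preimage_image_eq W').le
  obtain ⟨s', hs'⟩ := (hF.bijective U hU _ hWU).2
    ((GrMod.tilde (𝒮.deg U hU) (ℳ.deg U hU) n).presheaf.map (homOfLE hpre).op s)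
  refine ⟨_, hle, rfl, s', (hG.bijective U hU _ hWU).1 ?_⟩
  rw [induced_app hut, hs', QCohLib.app_map, QCohLib.app_map, hs]
  exact sec_ext fun y => rfl

theorem epi_relTilde_map (hF : RelProj.IsRelTilde 𝒮 p chart ℳ n F lam)
    (hG : RelProj.IsRelTilde 𝒮 p chart 𝒩 n G lam')
    (hut : IsInduced hu lam lam' ut) {n₀ : ℕ}
    (hsurj : ∀ (U : S.Opens) (hU : IsAffineOpen U) (k : ℕ), n₀ ≤ k →
      ∀ m' ∈ 𝒩.deg U hU k, ∃ m ∈ ℳ.deg U hU k, (u.val.app (op U)).hom m = m') : Epi ut := by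
  refine QCohLib.epi_of_surjective_on_affines ut fun V t x hx => ?_
  obtain ⟨U, hU, hxU⟩ := exists_chart_open (p := p) x
  obtain ⟨z, rfl⟩ := (MiscFlat6.emb_opensRange (chart := chart) U hU).ge hxU
  obtain ⟨W', hle, hz, s, hs⟩ := map_locally_surjective (secHom u U) (hu U hU) (hsurj U hU) ((lam' U hU).app V t) z hx
  obtain ⟨W, hWV, rfl, h⟩ := exists_lift_of_chart hF hG hut U hU t hle s hs
  exact ⟨_, hWV, ⟨z, hz, rfl⟩, h⟩

variable {ℒ : RelProj.GrModule 𝒮} {H : P.Modules}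
  {lam'' : ∀ (U : S.Opens) (hU : IsAffineOpen U),
    H ⟶ (Scheme.Modules.pushforward (RelProj.emb p chart U hU)).obj (GrMod.tilde (𝒮.deg U hU) (ℒ.deg U hU) n)}
  {v : 𝒩.mod ⟶ ℒ.mod} {hv : RelProj.IsGrModHom v} {vt : G ⟶ H}

theorem exact_relTilde_map (hF : RelProj.IsRelTilde 𝒮 p chart ℳ n F lam)
    (hG : RelProj.IsRelTilde 𝒮 p chart 𝒩 n G lam')
    (hut : IsInduced hu lam lam' ut) (hvt : IsInduced hv lam' lam'' vt)
    (hex : ∀ (U : S.Opens), IsAffineOpen U → Function.Exact (u.val.app (op U)).hom (v.val.app (op U)).hom)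
    (w : ut ≫ vt = 0) : (ShortComplex.mk ut vt w).Exact := by
  refine exact_of_locally_lift ut vt w fun V t ht x hx => ?_
  obtain ⟨U, hU, hxU⟩ := exists_chart_open (p := p) x
  obtain ⟨z, rfl⟩ := (MiscFlat6.emb_opensRange (chart := chart) U hU).ge hxU
  obtain ⟨d, g, hd, hg, hz, hle⟩ :=
    exists_pos_basicOpen (𝒮.deg U hU) (show z ∈ RelProj.emb p chart U hU ⁻¹ᵁ V from hx)
  have h0 : (lam'' U hU).app V (vt.app V t) = 0 := by rw [ht, map_zero]
  rw [induced_app hvt] at h0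
  obtain ⟨s, hs⟩ := (map_exact (n := n) (secHom u U) (hu U hU) (secHom v U) (hv U hU) (hex U hU) hd hg
    ((GrMod.tilde (𝒮.deg U hU) (𝒩.deg U hU) n).presheaf.map (homOfLE hle).op ((lam' U hU).app V t))).mp
      (by rw [QCohLib.app_map, h0]; exact map_zero _)
  obtain ⟨W, hWV, rfl, h⟩ := exists_lift_of_chart hF hG hut U hU t hle s hs
  exact ⟨_, hWV, ⟨z, hz, rfl⟩, h⟩

end

end GrModLib6

end
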