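import Groth.Agent.GrModLib6.RelTensor
import Groth.Agent.MiscFlat6.RelTwistOne
import Groth.Agent.MiscFlat6.CounitTwist
import Groth.Prelude.Def_PicGrp

/-!
# Powers of `O(1)`; eventual generation by the counit
-/

set_option autoImplicit false
universe u
open CategoryTheory CategoryTheory.Limits AlgebraicGeometry TopologicalSpace Opposite
open scoped HomogeneousIdeal

noncomputable section

namespace GrModLib6

variable {S P : Scheme.{u}} {𝒮 : RelProj.QCGrAlg S} {p : P ⟶ S}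
  {chart : ∀ (U : S.Opens) (hU : IsAffineOpen U), (((p ⁻¹ᵁ U : P.Opens) : Scheme.{u}) ≅ Proj (𝒮.deg U hU))}

theorem isRelTwist_congr {n n' : ℤ} (e : n = n') {L : P.Modules}
    {lam : ∀ (U : S.Opens) (hU : IsAffineOpen U),
      L ⟶ (Scheme.Modules.pushforward (RelProj.emb p chart U hU)).obj (GrTwist.twist (𝒮.deg U hU) n)}
    (h : RelProj.IsRelTwist 𝒮 p chart n L lam) :
    ∃ lam' : ∀ (U : S.Opens) (hU : IsAffineOpen U),
      L ⟶ (Scheme.Modules.pushforward (RelProj.emb p chart U hU)).obj (GrTwist.twist (𝒮.deg U hU) n'),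
      RelProj.IsRelTwist 𝒮 p chart n' L lam' := by
  subst e; exact ⟨lam, h⟩

theorem relTwist_zero_iso (hP : RelProj.IsRelProj 𝒮 p chart) {L : P.Modules}
    {lam : ∀ (U : S.Opens) (hU : IsAffineOpen U),
      L ⟶ (Scheme.Modules.pushforward (RelProj.emb p chart U hU)).obj (GrTwist.twist (𝒮.deg U hU) 0)}
    (hL : RelProj.IsRelTwist 𝒮 p chart 0 L lam) : Nonempty (L ≅ Coh.structureModule P) := by
  obtain ⟨lam', hL'⟩ := isRelTwist_congr (show (0 : ℤ) = 0 * ((0 : ℕ) : ℤ) by simp) hL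
  have hXf : ∀ (V : S.Opens) (hV : IsAffineOpen V), (⊤ : P.Opens) ⊓ p ⁻¹ᵁ V =
      (p ⁻¹ᵁ V).ι ''ᵁ ((chart V hV).hom ⁻¹ᵁ
        Proj.basicOpen (𝒮.deg V hV) ((𝒮.presheaf.map (homOfLE le_top).op).hom 1)) := fun V hV => by
    rw [map_one, Proj.basicOpen_one, top_inf_eq, Scheme.Hom.preimage_top, Scheme.Opens.ι_image_top]
  obtain ⟨φ⟩ := relTwist_trivial_basicOpen hP (d := 0) (1 : 𝒮.presheaf.obj (op ⊤))
    (fun V hV => by rw [map_one]; exact SetLike.GradedOne.one_mem) ⊤ hXf 0 hL'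
  let j := (⊤ : P.Opens).ι
  let t : P ⟶ (⊤ : P.Opens) := (Scheme.topIso P).inv
  have ht : t ≫ j = 𝟙 P := (Scheme.topIso P).inv_hom_id
  exact ⟨((Scheme.Modules.restrictFunctorId (X := P)).app L).symm ≪≫
    (Scheme.Modules.restrictFunctorCongr ht.symm).app L ≪≫ (Scheme.Modules.restrictFunctorComp t j).app L ≪≫
    (Scheme.Modules.restrictFunctor t).mapIso φ ≪≫ (MiscFlat6.nonempty_restrict_structureModule t).some⟩

theorem relTwist_pow (hP : RelProj.IsRelProj 𝒮 p chart) (hgen : 𝒮.IsGenDegOne) {L : P.Modules}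
    {lam : ∀ (U : S.Opens) (hU : IsAffineOpen U),
      L ⟶ (Scheme.Modules.pushforward (RelProj.emb p chart U hU)).obj (GrTwist.twist (𝒮.deg U hU) 1)}
    (hL : RelProj.IsRelTwist 𝒮 p chart 1 L lam) (k : ℕ) :
    ∀ {n : ℤ}, n = k → ∀ {M : P.Modules}
      {lam' : ∀ (U : S.Opens) (hU : IsAffineOpen U),
        M ⟶ (Scheme.Modules.pushforward (RelProj.emb p chart U hU)).obj (GrTwist.twist (𝒮.deg U hU) n)},
      RelProj.IsRelTwist 𝒮 p chart n M lam' → Nonempty (CohB1.tensorPow L k ≅ M) := by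
  induction k with
  | zero =>
    intro n hn M lam' hM
    obtain ⟨lam'', hM'⟩ := isRelTwist_congr (show n = 0 by simpa using hn) hM
    exact ⟨(relTwist_zero_iso hP hM').some.symm⟩
  | succ k ih =>
    intro n hn M lam' hM
    obtain ⟨Mk, lamk, hMk⟩ := exists_isRelTwist hP (k : ℤ)
    obtain ⟨i⟩ := ih rfl hMk
    obtain ⟨e⟩ := tensor_iso_global hP hgen hMk hL hM (by rw [hn]; push_cast; ring)
    exact ⟨PicGrp.tensorModIso i (Iso.refl L) ≪≫ e⟩

theorem counit_twist_epi (hP : RelProj.IsRelProj 𝒮 p chart) [CompactSpace S] (hgen : 𝒮.IsGenDegOne)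
    (hft : 𝒮.IsFTDeg 1) (F : P.Modules) (hF : Coh.IsCoh F) :
    ∃ n₀ : ℤ, ∀ (n : ℤ), n₀ ≤ n → ∀ (L : P.Modules)
      (lam : ∀ (U : S.Opens) (hU : IsAffineOpen U),
      L ⟶ (Scheme.Modules.pushforward (RelProj.emb p chart U hU)).obj (GrTwist.twist (𝒮.deg U hU) n)),
      RelProj.IsRelTwist 𝒮 p chart n L lam →
        Epi ((Scheme.Modules.pullbackPushforwardAdjunction p).counit.app (CohB1.tensorMod F L)) := by
  haveI := MiscFlat6.isProper_relProj hP hgen hft
  haveI : CompactSpace P := QuasiCompact.compactSpace_of_compactSpace p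
  obtain ⟨L₁, lam₁, hL₁⟩ := exists_isRelTwist hP 1
  obtain ⟨n₀, -, h⟩ := MiscFlat6.exists_counit_epi_twist p (MiscFlat6.relTwist_one_isRelAmple hP hgen hft hL₁) F hF
  refine ⟨n₀, fun n hn L lam hL => ?_⟩
  obtain ⟨k, rfl⟩ := Int.eq_ofNat_of_zero_le ((Int.natCast_nonneg n₀).trans hn)
  obtain ⟨i⟩ := relTwist_pow hP hgen hL₁ k rfl hL
  let ε := (Scheme.Modules.pullbackPushforwardAdjunction p).counit
  let e := PicGrp.tensorModIso (Iso.refl F) i
  haveI := h k (by exact_mod_cast hn)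
  have h2 : Epi ((Scheme.Modules.pushforward p ⋙ Scheme.Modules.pullback p).map e.hom ≫ ε.app _) := by
    rw [ε.naturality e.hom]; exact epi_comp _ _
  exact epi_of_epi ((Scheme.Modules.pushforward p ⋙ Scheme.Modules.pullback p).map e.hom) _

end GrModLib6

end
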