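import Groth.Agent.GrModLib6.RelTrivial
import Groth.Agent.AmpleThLib.Pow
import Groth.Agent.AmpleThLib.Restr

/-!
# Tensor products of twists on a relative Proj
-/

set_option autoImplicit false
universe u
open CategoryTheory CategoryTheory.Limits AlgebraicGeometry TopologicalSpace Opposite
open scoped HomogeneousIdeal
open AmpleLib (GenOn shT res)
open GrTwistLib (Unit' powUnit)

noncomputable section

namespace GrModLib6

theorem locMap_eq_zero {A σ B σ' : Type u} [CommRing A] [SetLike σ A] [AddSubgroupClass σ A] {𝒜 : ℕ → σ}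
    [GradedRing 𝒜] [CommRing B] [SetLike σ' B] [AddSubgroupClass σ' B] {ℬ : ℕ → σ'} [GradedRing ℬ]
    {ψ : 𝒜 →+*ᵍ ℬ} (hψ : ℬ₊ ≤ (𝒜₊).map ψ) {c : A}
    (h : IsInverting (M := A) (N := B) ψ ψ.toRingHom.toSemilinearMap c) {y : ProjectiveSpectrum ℬ}
    {q : GrTwist.Loc 𝒜 (ProjectiveSpectrum.comap ψ hψ y)} (hq : GrTwist.locMap ψ hψ y q = 0) : q = 0 := by
  have e : ∀ q : GrMod.LocMod 𝒜 (M := A) (ProjectiveSpectrum.comap ψ hψ y),
      GrMod.locModMap ψ hψ ψ.toRingHom.toSemilinearMap y q = GrTwist.locMap ψ hψ y q := fun q => by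
    induction q using LocalizedModule.induction_on with
    | h m s => exact (GrTwist.locMap_mk ψ hψ y m s).symm
  exact h.locModMap_eq_zero hψ ((e q).trans hq)

theorem loc_mk_mul {A σ : Type u} [CommRing A] [SetLike σ A] [AddSubgroupClass σ A] {𝒜 : ℕ → σ} [GradedRing 𝒜]
    {d : ℕ} {f : A} (hf : f ∈ 𝒜 d) (m n : ℤ) (x : (Proj.basicOpen 𝒜 f : (Proj 𝒜).Opens)) :
    GrTwistLib.val (powUnit 𝒜 hf (m + n)).sec x =
      GrTwistLib.val (powUnit 𝒜 hf m).sec x * GrTwistLib.val (powUnit 𝒜 hf n).sec x := by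
  have hu : IsUnit (Localization.mk f 1 : GrTwist.Loc 𝒜 x.1) :=
    isUnit_iff_exists_inv.mpr ⟨Localization.mk 1 ⟨f, x.2⟩, by
      rw [Localization.mk_mul, ← Localization.mk_one, Localization.mk_eq_mk_iff, Localization.r_iff_exists]
      exact ⟨1, by simp⟩⟩
  have key : ∀ m : ℤ, GrTwistLib.val (powUnit 𝒜 hf m).sec x = ((hu.unit ^ m : (GrTwist.Loc 𝒜 x.1)ˣ) : GrTwist.Loc 𝒜 x.1) := by
    intro m
    cases m with
    | ofNat k =>
      rw [Int.ofNat_eq_natCast, zpow_natCast, Units.val_pow_eq_pow_val, IsUnit.unit_spec, Localization.mk_pow]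
      show Localization.mk (f ^ k) _ = _
      exact congrArg₂ Localization.mk rfl (Subtype.ext (show (1 : A) ^ k = ((1 : x.1.asHomogeneousIdeal.toIdeal.primeCompl) ^ k : x.1.asHomogeneousIdeal.toIdeal.primeCompl) by simp))
    | negSucc k =>
      refine (Units.mul_left_inj (hu.unit ^ (k + 1))).mp ?_
      rw [zpow_negSucc, ← Units.val_mul, inv_mul_cancel, Units.val_one, Units.val_pow_eq_pow_val, IsUnit.unit_spec,
        Localization.mk_pow]
      show Localization.mk ((1 : A) ^ (k + 1)) ⟨f ^ (k + 1), _⟩ * _ = _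
      rw [Localization.mk_mul, ← Localization.mk_one, Localization.mk_eq_mk_iff, Localization.r_iff_exists]
      exact ⟨1, by simp⟩
  rw [key, key, key, zpow_add, Units.val_mul]

variable {S P : Scheme.{u}} {𝒮 : RelProj.QCGrAlg S} {p : P ⟶ S}
  {chart : ∀ (U : S.Opens) (hU : IsAffineOpen U), (((p ⁻¹ᵁ U : P.Opens) : Scheme.{u}) ≅ Proj (𝒮.deg U hU))}
  {l m n : ℤ} {L L' L'' : P.Modules}
  {lam : ∀ (U : S.Opens) (hU : IsAffineOpen U),
    L ⟶ (Scheme.Modules.pushforward (RelProj.emb p chart U hU)).obj (GrTwist.twist (𝒮.deg U hU) m)}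
  {lam' : ∀ (U : S.Opens) (hU : IsAffineOpen U),
    L' ⟶ (Scheme.Modules.pushforward (RelProj.emb p chart U hU)).obj (GrTwist.twist (𝒮.deg U hU) n)}
  {lam'' : ∀ (U : S.Opens) (hU : IsAffineOpen U),
    L'' ⟶ (Scheme.Modules.pushforward (RelProj.emb p chart U hU)).obj (GrTwist.twist (𝒮.deg U hU) l)}

/-- the value in a chart of a section -/
abbrev cval (lam : ∀ (U : S.Opens) (hU : IsAffineOpen U),
    L ⟶ (Scheme.Modules.pushforward (RelProj.emb p chart U hU)).obj (GrTwist.twist (𝒮.deg U hU) m))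
    (i : Aff S) {D : P.Opens} (σ : Γ(L, D)) (y : (RelProj.emb p chart i.1 i.2 ⁻¹ᵁ D : (Proj (𝒮.deg i.1 i.2)).Opens)) :
    GrTwist.Loc (𝒮.deg i.1 i.2) y.1 :=
  GrTwistLib.val (𝒜 := 𝒮.deg i.1 i.2) (n := m) (V := RelProj.emb p chart i.1 i.2 ⁻¹ᵁ D) ((lam i.1 i.2).app D σ) y

variable (lam lam' lam'') in
/-- one section is the product of the other two in every chart -/
def IsMul (D : P.Opens) (σ : Γ(L, D)) (σ' : Γ(L', D)) (σ'' : Γ(L'', D)) : Prop :=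
  ∀ (i : Aff S) (y : (RelProj.emb p chart i.1 i.2 ⁻¹ᵁ D : (Proj (𝒮.deg i.1 i.2)).Opens)),
    cval lam'' i σ'' y = cval lam i σ y * cval lam' i σ' y

theorem cval_basic (hP : RelProj.IsRelProj 𝒮 p chart) (hL : RelProj.IsRelTwist 𝒮 p chart m L lam)
    {i j : Aff S} (h : IsBasic i j) {D : P.Opens} (σ : Γ(L, D))
    (y : (RelProj.emb p chart j.1 j.2 ⁻¹ᵁ D : (Proj (𝒮.deg j.1 j.2)).Opens))
    (hy : ProjectiveSpectrum.comap (𝒮.res i.2 j.2 h.le) (h.irr 𝒮) y.1 ∈ RelProj.emb p chart i.1 i.2 ⁻¹ᵁ D) :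
    cval lam j σ y = GrTwist.locMap (𝒮.res i.2 j.2 h.le) (h.irr 𝒮) y.1 (cval lam i σ ⟨_, hy⟩) := by
  have e : (δW hP m h).app D ((lam i.1 i.2).app D σ) = (lam j.1 j.2).app D σ :=
    congrArg (fun φ => φ.app D σ) (compat_of_isRelTwist hP hL i j h)
  exact (congrArg (fun z => GrTwistLib.val z y) e.symm).trans (δW_val hP m h D _ y hy)

theorem isMul_of_chart (hP : RelProj.IsRelProj 𝒮 p chart) (hL : RelProj.IsRelTwist 𝒮 p chart m L lam)
    (hL' : RelProj.IsRelTwist 𝒮 p chart n L' lam') (hL'' : RelProj.IsRelTwist 𝒮 p chart l L'' lam'')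
    (i : Aff S) {D : P.Opens} (hD : D ≤ p ⁻¹ᵁ i.1) (σ : Γ(L, D)) (σ' : Γ(L', D)) (σ'' : Γ(L'', D))
    (h : ∀ y, cval lam'' i σ'' y = cval lam i σ y * cval lam' i σ' y) : IsMul lam lam' lam'' D σ σ' σ'' := by
  intro k y
  let z := RelProj.emb p chart k.1 k.2 y.1
  have hzk : z ∈ p ⁻¹ᵁ k.1 := (MiscFlat6.emb_opensRange (chart := chart) k.1 k.2).le ⟨y.1, rfl⟩
  obtain ⟨j, hij, hkj, hzj⟩ := exists_isBasic_inter (i := i) (j := k) (x := p z) (hD y.2) hzk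
  obtain ⟨w, hw⟩ := (MiscFlat6.emb_opensRange (chart := chart) j.1 j.2).ge (show z ∈ p ⁻¹ᵁ j.1 from hzj)
  have hwD : w ∈ RelProj.emb p chart j.1 j.2 ⁻¹ᵁ D := by
    show RelProj.emb p chart j.1 j.2 w ∈ D
    rw [hw]; exact y.2
  have hwi := (preimage_pmap hP hij D).le hwD
  have hj : cval lam'' j σ'' ⟨w, hwD⟩ = cval lam j σ ⟨w, hwD⟩ * cval lam' j σ' ⟨w, hwD⟩ := by
    rw [cval_basic hP hL'' hij σ'' ⟨w, hwD⟩ hwi, cval_basic hP hL hij σ ⟨w, hwD⟩ hwi,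
      cval_basic hP hL' hij σ' ⟨w, hwD⟩ hwi, h, map_mul]
  obtain ⟨y, hy⟩ := y
  have hyw : ProjectiveSpectrum.comap (𝒮.res k.2 j.2 hkj.le) (hkj.irr 𝒮) w = y := by
    refine (RelProj.emb p chart k.1 k.2).isOpenEmbedding.injective ?_
    show RelProj.emb p chart k.1 k.2 (pmap 𝒮 hkj w) = _
    rw [← Scheme.Hom.comp_apply, pmap_emb hP hkj]
    exact hw
  subst hyw
  rw [cval_basic hP hL'' hkj σ'' ⟨w, hwD⟩ hy, cval_basic hP hL hkj σ ⟨w, hwD⟩ hy,
    cval_basic hP hL' hkj σ' ⟨w, hwD⟩ hy, ← map_mul, ← sub_eq_zero, ← map_sub] at hj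
  obtain ⟨c, hc⟩ := isInverting_alg (𝒮 := 𝒮) hkj
  exact sub_eq_zero.mp (locMap_eq_zero (hkj.irr 𝒮) hc hj)

theorem cval_smul (i : Aff S) {D : P.Opens} (r : Γ(P, D)) (σ : Γ(L, D))
    (y : (RelProj.emb p chart i.1 i.2 ⁻¹ᵁ D : (Proj (𝒮.deg i.1 i.2)).Opens)) :
    cval lam i (r • σ) y =
      ((show GrTwist.O (op (RelProj.emb p chart i.1 i.2 ⁻¹ᵁ D)) from
        (RelProj.emb p chart i.1 i.2).app D r).1 y).val * cval lam i σ y := by
  show GrTwistLib.val ((lam i.1 i.2).app D (r • σ)) y = _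
  rw [QCohLib.app_smul]
  exact GrTwistLib.val_smul _ _ y

theorem cval_res (i : Aff S) {W D : P.Opens} (h : W ≤ D) (σ : Γ(L, D))
    (y : (RelProj.emb p chart i.1 i.2 ⁻¹ᵁ W : (Proj (𝒮.deg i.1 i.2)).Opens)) :
    cval lam i (res L h σ) y = cval lam i σ ⟨y.1, h y.2⟩ := by
  show GrTwistLib.val ((lam i.1 i.2).app W (res L h σ)) y = _
  exact congrArg (fun z => GrTwistLib.val z y) (QCohLib.app_map (lam i.1 i.2) (homOfLE h) σ)

theorem eq_of_cval (hL : RelProj.IsRelTwist 𝒮 p chart m L lam) {W : P.Opens} (a b : Γ(L, W))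
    (h : ∀ (i : Aff S) (y : (RelProj.emb p chart i.1 i.2 ⁻¹ᵁ W : (Proj (𝒮.deg i.1 i.2)).Opens)),
      cval lam i a y = cval lam i b y) : a = b := by
  refine ModGlueLib.eq_of_locally a b fun x hx => ?_
  obtain ⟨U, hU, hxU⟩ := exists_chart_open (p := p) x
  refine ⟨W ⊓ p ⁻¹ᵁ U, inf_le_left, ⟨hx, hxU⟩, (hL.bijective U hU _ inf_le_right).1 (GrTwistLib.sec_ext fun y => ?_)⟩
  exact (cval_res ⟨U, hU⟩ inf_le_left a y).trans ((h ⟨U, hU⟩ _).trans (cval_res ⟨U, hU⟩ inf_le_left b y).symm)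

theorem mul_coeff (hL'' : RelProj.IsRelTwist 𝒮 p chart l L'' lam'') {Da Db W : P.Opens} (ha : W ≤ Da) (hb : W ≤ Db)
    {σa : Γ(L, Da)} {σa' : Γ(L', Da)} {σa'' : Γ(L'', Da)} (hma : IsMul lam lam' lam'' Da σa σa' σa'')
    {σb : Γ(L, Db)} {σb' : Γ(L', Db)} {σb'' : Γ(L'', Db)} (hmb : IsMul lam lam' lam'' Db σb σb' σb'')
    (C C' : Γ(P, W)) (hC : C • res L ha σa = res L hb σb) (hC' : C' • res L' ha σa' = res L' hb σb') :
    (C * C') • res L'' ha σa'' = res L'' hb σb'' := by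
  refine eq_of_cval hL'' _ _ fun i y => ?_
  have e := congrArg (fun t => cval lam i t y) hC
  have e' := congrArg (fun t => cval lam' i t y) hC'
  simp only [cval_smul, cval_res] at e e' ⊢
  rw [hmb, ← e, ← e', hma, map_mul]
  rw [mul_mul_mul_comm]
  refine congrArg (· * _) ?_
  exact HomogeneousLocalization.val_mul _ _

/-- the tensor product of two twists, where pieces generating both are given -/
theorem tensor_iso (hL'' : RelProj.IsRelTwist 𝒮 p chart l L'' lam'') (Q : P.Opens)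
    (hpc : ∀ x ∈ Q, ∃ (D : P.Opens) (_ : x ∈ D) (σ : Γ(L, D)) (σ' : Γ(L', D)) (σ'' : Γ(L'', D)),
      GenOn L σ ∧ GenOn L' σ' ∧ GenOn L'' σ'' ∧ IsMul lam lam' lam'' D σ σ' σ'') :
    Nonempty (CohB1.tensorMod (L.restrict Q.ι) (L'.restrict Q.ι) ≅ L''.restrict Q.ι) := by
  choose D hxD σ σ' σ'' hσ hσ' hσ'' hmul using fun x : Q => hpc x.1 x.2
  let j := Q.ι
  let E : ∀ x : Q, (Q : Scheme.{u}).Opens := fun x => j ⁻¹ᵁ D x
  let r : ∀ {M : P.Modules} (x : Q), Γ(M, D x) → Γ(M.restrict j, E x) := fun {M} x a =>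
    res M (j.image_preimage_le (D x)) a
  have hg : ∀ x, GenOn (L.restrict j) (r x (σ x)) ∧ GenOn (L'.restrict j) (r x (σ' x)) ∧
      GenOn (L''.restrict j) (r x (σ'' x)) := fun x =>
    ⟨(hσ x).restrict j _ (j.image_preimage_le _), (hσ' x).restrict j _ (j.image_preimage_le _),
      (hσ'' x).restrict j _ (j.image_preimage_le _)⟩
  refine (AmpleThLib.exists_iso_gens (M := CohB1.tensorMod (L.restrict j) (L'.restrict j))
    (N := L''.restrict j) E (fun x => shT (r x (σ x)) (r x (σ' x))) (fun x => r x (σ'' x))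
    (fun z => ⟨⟨z.1, z.2⟩, hxD _⟩) (fun x => AmpleThLib.shT_genOn (hg x).1 (hg x).2.1) (fun x => (hg x).2.2) ?_).elim fun φ _ => ⟨φ⟩
  intro a b V ha hb
  obtain ⟨c, hc⟩ := ((hg a).1 V ha).2 (res (L.restrict j) hb (r b (σ b)))
  obtain ⟨c', hc'⟩ := ((hg a).2.1 V ha).2 (res (L'.restrict j) hb (r b (σ' b)))
  dsimp only at hc hc'
  refine ⟨c * c', ?_, ?_⟩
  · rw [AmpleLib.shT_res, AmpleLib.shT_res, ← hc, ← hc', AmpleLib.shT_smul]
  · have ha' : j ''ᵁ V ≤ D a := (j.image_mono ha).trans (j.image_preimage_le _)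
    have hb' : j ''ᵁ V ≤ D b := (j.image_mono hb).trans (j.image_preimage_le _)
    let C : Γ(P, j ''ᵁ V) := (j.appIso V).inv c
    let C' : Γ(P, j ''ᵁ V) := (j.appIso V).inv c'
    have hC : C • res L ha' (σ a) = res L hb' (σ b) := by
      have h1 : C • res L (j.image_mono ha) (res L (j.image_preimage_le (D a)) (σ a)) =
          res L (j.image_mono hb) (res L (j.image_preimage_le (D b)) (σ b)) := hc
      rwa [AmpleLib.res_res, AmpleLib.res_res] at h1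
    have hC' : C' • res L' ha' (σ' a) = res L' hb' (σ' b) := by
      have h1 : C' • res L' (j.image_mono ha) (res L' (j.image_preimage_le (D a)) (σ' a)) =
          res L' (j.image_mono hb) (res L' (j.image_preimage_le (D b)) (σ' b)) := hc'
      rwa [AmpleLib.res_res, AmpleLib.res_res] at h1
    have h2 := mul_coeff hL'' ha' hb' (hmul a) (hmul b) C C' hC hC'
    show (show Γ(P, j ''ᵁ V) from (j.appIso V).inv (c * c')) •
        res L'' (j.image_mono ha) (res L'' (j.image_preimage_le (D a)) (σ'' a)) =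
      res L'' (j.image_mono hb) (res L'' (j.image_preimage_le (D b)) (σ'' b))
    rw [AmpleLib.res_res, AmpleLib.res_res, map_mul]
    exact h2

theorem exists_gen_chart (hL : RelProj.IsRelTwist 𝒮 p chart m L lam) (i : Aff S) {D : P.Opens}
    (hD : D ≤ p ⁻¹ᵁ i.1) {B : (Proj (𝒮.deg i.1 i.2)).Opens} (hpre : RelProj.emb p chart i.1 i.2 ⁻¹ᵁ D ≤ B)
    (g : Unit' (𝒮.deg i.1 i.2) m B) :
    ∃ σ : Γ(L, D), (∀ y, cval lam i σ y = GrTwistLib.val g.sec ⟨y.1, hpre y.2⟩) ∧ GenOn L σ := by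
  obtain ⟨σ, hσ⟩ := (hL.bijective i.1 i.2 D hD).2 (res (GrTwist.twist (𝒮.deg i.1 i.2) m) hpre g.sec)
  refine ⟨σ, fun y => (congrArg (fun z => GrTwistLib.val z y) hσ).trans (GrTwistLib.val_res hpre g.sec y),
    fun W hW => ?_⟩
  let em := RelProj.emb p chart i.1 i.2
  haveI : IsIso (em.app W) := em.isIso_app W ((hW.trans hD).trans (MiscFlat6.emb_opensRange (chart := chart) _ _).ge)
  have hb1 : Function.Bijective (em.app W) := ConcreteCategory.bijective_of_isIso (em.app W)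
  have hb2 := g.genOn (em ⁻¹ᵁ W) ((em.preimage_mono hW).trans hpre)
  refine ((hL.bijective i.1 i.2 W (hW.trans hD)).of_comp_iff' _).mp ?_
  refine (congrArg Function.Bijective (funext fun r => ?_)).mpr (hb2.comp hb1)
  show (lam i.1 i.2).app W (r • res L hW σ) = _
  rw [QCohLib.app_smul]
  refine congrArg (fun z => r • z) ((QCohLib.app_map (lam i.1 i.2) (homOfLE hW) σ).trans ?_)
  rw [hσ]
  exact GrTwistLib.sec_ext fun y => rfl

theorem exists_piece (hP : RelProj.IsRelProj 𝒮 p chart) (hL : RelProj.IsRelTwist 𝒮 p chart m L lam)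
    (hL' : RelProj.IsRelTwist 𝒮 p chart n L' lam') (hL'' : RelProj.IsRelTwist 𝒮 p chart l L'' lam'')
    (hl : l = m + n) (i : Aff S) {e : ℕ} {f : 𝒮.presheaf.obj (op i.1)} (hf : f ∈ 𝒮.deg i.1 i.2 e) {a b : ℤ}
    (hm : m = a * e) (hn : n = b * e) :
    ∃ (σ : Γ(L, RelProj.emb p chart i.1 i.2 ''ᵁ Proj.basicOpen (𝒮.deg i.1 i.2) f))
      (σ' : Γ(L', RelProj.emb p chart i.1 i.2 ''ᵁ Proj.basicOpen (𝒮.deg i.1 i.2) f))
      (σ'' : Γ(L'', RelProj.emb p chart i.1 i.2 ''ᵁ Proj.basicOpen (𝒮.deg i.1 i.2) f)),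
      GenOn L σ ∧ GenOn L' σ' ∧ GenOn L'' σ'' ∧ IsMul lam lam' lam'' _ σ σ' σ'' := by
  subst hm hn
  obtain rfl : l = (a + b) * e := hl.trans (add_mul a b (e : ℤ)).symm
  have hle : RelProj.emb p chart i.1 i.2 ''ᵁ Proj.basicOpen (𝒮.deg i.1 i.2) f ≤ p ⁻¹ᵁ i.1 :=
    ((RelProj.emb p chart i.1 i.2).image_le_opensRange _).trans (MiscFlat6.emb_opensRange (chart := chart) _ _).le
  have hpre : RelProj.emb p chart i.1 i.2 ⁻¹ᵁ (RelProj.emb p chart i.1 i.2 ''ᵁ Proj.basicOpen (𝒮.deg i.1 i.2) f) ≤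
      Proj.basicOpen (𝒮.deg i.1 i.2) f := ((RelProj.emb p chart i.1 i.2).preimage_image_eq _).le
  obtain ⟨σ, hσ, hσg⟩ := exists_gen_chart hL i hle hpre (powUnit _ hf a)
  obtain ⟨σ', hσ', hσg'⟩ := exists_gen_chart hL' i hle hpre (powUnit _ hf b)
  obtain ⟨σ'', hσ'', hσg''⟩ := exists_gen_chart hL'' i hle hpre (powUnit _ hf (a + b))
  refine ⟨σ, σ', σ'', hσg, hσg', hσg'', isMul_of_chart hP hL hL' hL'' i hle σ σ' σ'' fun y => ?_⟩
  rw [hσ, hσ', hσ'']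
  exact loc_mk_mul hf a b _

/-- the tensor product of two twists on the whole of the relative Proj -/
theorem tensor_iso_global (hP : RelProj.IsRelProj 𝒮 p chart) (hgen : 𝒮.IsGenDegOne)
    (hL : RelProj.IsRelTwist 𝒮 p chart m L lam) (hL' : RelProj.IsRelTwist 𝒮 p chart n L' lam')
    (hL'' : RelProj.IsRelTwist 𝒮 p chart l L'' lam'') (hl : l = m + n) :
    Nonempty (CohB1.tensorMod L L' ≅ L'') := by
  have key : ∀ x : P, ∃ (i : Aff S) (f : 𝒮.presheaf.obj (op i.1)) (_ : f ∈ 𝒮.deg i.1 i.2 1),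
      x ∈ RelProj.emb p chart i.1 i.2 ''ᵁ Proj.basicOpen (𝒮.deg i.1 i.2) f := fun x => by
    obtain ⟨V, hV, hxV⟩ := exists_chart_open (p := p) x
    obtain ⟨y, rfl⟩ := (MiscFlat6.emb_opensRange (chart := chart) V hV).ge hxV
    obtain ⟨f, hf, hy⟩ := GrTwistLib.exists_basicOpen_of_genDegOne _ (hgen V hV) y
    exact ⟨⟨V, hV⟩, f, hf, ⟨y, hy, rfl⟩⟩
  choose i f hf hxf using key
  choose σ σ' σ'' hσ hσ' hσ'' hmul using fun x => exists_piece hP hL hL' hL'' hl (i x) (hf x) (a := m) (b := n)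
    (by simp) (by simp)
  refine (AmpleThLib.exists_iso_gens (M := CohB1.tensorMod L L') (N := L'') _
    (fun x => shT (σ x) (σ' x)) σ'' (fun x => ⟨x, hxf x⟩) (fun x => AmpleThLib.shT_genOn (hσ x) (hσ' x))
    hσ'' fun a b V ha hb => ?_).elim fun φ _ => ⟨φ⟩
  obtain ⟨c, hc⟩ := (hσ a V ha).2 (res L hb (σ b))
  obtain ⟨c', hc'⟩ := (hσ' a V ha).2 (res L' hb (σ' b))
  dsimp only at hc hc'
  refine ⟨c * c', ?_, mul_coeff hL'' ha hb (hmul a) (hmul b) c c' hc hc'⟩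
  rw [AmpleLib.shT_res, AmpleLib.shT_res, ← hc, ← hc', AmpleLib.shT_smul]

/-- `O(n) ⊗ O(-n)` is trivial on a quasi-compact open, for suitable multiples `n` -/
theorem exists_period_tensor_neg (hP : RelProj.IsRelProj 𝒮 p chart) (U : P.Opens) (hU : IsCompact (U : Set P)) :
    ∃ d : ℕ, 0 < d ∧ ∀ (n : ℤ), (d : ℤ) ∣ n →
      ∀ (L : P.Modules) (lam : ∀ (V : S.Opens) (hV : IsAffineOpen V),
          L ⟶ (Scheme.Modules.pushforward (RelProj.emb p chart V hV)).obj (GrTwist.twist (𝒮.deg V hV) n)),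
        RelProj.IsRelTwist 𝒮 p chart n L lam →
      ∀ (L' : P.Modules) (lam' : ∀ (V : S.Opens) (hV : IsAffineOpen V),
          L' ⟶ (Scheme.Modules.pushforward (RelProj.emb p chart V hV)).obj (GrTwist.twist (𝒮.deg V hV) (-n))),
        RelProj.IsRelTwist 𝒮 p chart (-n) L' lam' →
          Nonempty (CohB1.tensorMod (L.restrict U.ι) (L'.restrict U.ι) ≅ Coh.structureModule (U : Scheme.{u})) := by
  classical
  have key : ∀ x : P, ∃ (i : Aff S) (e : ℕ) (f : 𝒮.presheaf.obj (op i.1)) (_ : 0 < e) (_ : f ∈ 𝒮.deg i.1 i.2 e),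
      x ∈ RelProj.emb p chart i.1 i.2 ''ᵁ Proj.basicOpen (𝒮.deg i.1 i.2) f := fun x => by
    obtain ⟨V, hV, hxV⟩ := exists_chart_open (p := p) x
    obtain ⟨y, rfl⟩ := (MiscFlat6.emb_opensRange (chart := chart) V hV).ge hxV
    obtain ⟨e, f, he, hf, hy⟩ := exists_pos_not_mem (𝒮.deg V hV) y
    exact ⟨⟨V, hV⟩, e, f, he, hf, ⟨y, hy, rfl⟩⟩
  choose i e f he hf hxf using key
  obtain ⟨T, hT⟩ := hU.elim_finite_subcover
    (fun x => (RelProj.emb p chart (i x).1 (i x).2 ''ᵁ Proj.basicOpen (𝒮.deg (i x).1 (i x).2) (f x) : Set P))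
    (fun x => (RelProj.emb p chart (i x).1 (i x).2 ''ᵁ Proj.basicOpen (𝒮.deg (i x).1 (i x).2) (f x)).2)
    fun x _ => Set.mem_iUnion.mpr ⟨x, hxf x⟩
  refine ⟨∏ x ∈ T, e x, Finset.prod_pos fun x _ => he x, fun n hn L lam hL L' lam' hL' => ?_⟩
  obtain ⟨L₀, lam₀, hL₀⟩ := exists_isRelTwist hP (0 * ((0 : ℕ) : ℤ))
  have hXf : ∀ (V : S.Opens) (hV : IsAffineOpen V), (⊤ : P.Opens) ⊓ p ⁻¹ᵁ V =
      (p ⁻¹ᵁ V).ι ''ᵁ ((chart V hV).hom ⁻¹ᵁ
        Proj.basicOpen (𝒮.deg V hV) ((𝒮.presheaf.map (homOfLE le_top).op).hom 1)) := fun V hV => by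
    rw [map_one, Proj.basicOpen_one, top_inf_eq, Scheme.Hom.preimage_top, Scheme.Opens.ι_image_top]
  obtain ⟨φ⟩ := relTwist_trivial_basicOpen hP (d := 0) (1 : 𝒮.presheaf.obj (op ⊤))
    (fun V hV => by rw [map_one]; exact SetLike.GradedOne.one_mem) ⊤ hXf 0 hL₀
  obtain ⟨ψ⟩ := tensor_iso (lam := lam) (lam' := lam') hL₀ U fun x hx => by
    obtain ⟨z, hzT, hxz⟩ := Set.mem_iUnion₂.mp (hT hx)
    obtain ⟨k, hk⟩ : (e z : ℤ) ∣ n := dvd_trans (by exact_mod_cast Finset.dvd_prod_of_mem e hzT) hn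
    obtain ⟨σ, σ', σ'', h⟩ := exists_piece hP hL hL' hL₀ (by simp) (i z) (hf z) (a := k) (b := -k)
      (by rw [hk]; ring) (by rw [hk]; ring)
    exact ⟨_, hxz, σ, σ', σ'', h⟩
  refine ⟨ψ ≪≫ ?_⟩
  refine (Scheme.Modules.restrictFunctorCongr (P.homOfLE_ι (le_top : U ≤ ⊤)).symm).app L₀ ≪≫
    (Scheme.Modules.restrictFunctorComp (P.homOfLE (le_top : U ≤ ⊤)) (⊤ : P.Opens).ι).app L₀ ≪≫
    (Scheme.Modules.restrictFunctor (P.homOfLE (le_top : U ≤ ⊤))).mapIso φ ≪≫ ?_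
  exact (MiscFlat6.nonempty_restrict_structureModule (P.homOfLE (le_top : U ≤ ⊤))).some

end GrModLib6

end
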