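import Groth.Agent.GrModLib6.RelComapTwist
import Groth.Agent.GrModLib6.RelTensor
import Groth.Agent.GrModLib6.RelPow
import Groth.Agent.AmpleDevLib.Pull

/-!
# The inverse image of a twist along a morphism of relative Proj's
-/

set_option autoImplicit false
universe u
open CategoryTheory CategoryTheory.Limits AlgebraicGeometry TopologicalSpace Opposite
open scoped HomogeneousIdeal
open AmpleLib (GenOn res)
open GrTwistLib (Unit' powUnit)

noncomputable section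

namespace GrModLib6

variable {S PA PB : Scheme.{u}} {𝒜 ℬ : RelProj.QCGrAlg S} {φ : 𝒜.toQCAlg ⟶ ℬ.toQCAlg}
  {hφ : RelProj.IsGradedHom φ}
  {hirr : ∀ (U : S.Opens) (hU : IsAffineOpen U),
    (ℬ.deg U hU)₊ ≤ ((𝒜.deg U hU)₊).map (RelProj.gradedHomAt φ hφ U hU)}
  {pA : PA ⟶ S} {pB : PB ⟶ S}
  {chartA : ∀ (U : S.Opens) (hU : IsAffineOpen U), (((pA ⁻¹ᵁ U : PA.Opens) : Scheme.{u}) ≅ Proj (𝒜.deg U hU))}
  {chartB : ∀ (U : S.Opens) (hU : IsAffineOpen U), (((pB ⁻¹ᵁ U : PB.Opens) : Scheme.{u}) ≅ Proj (ℬ.deg U hU))}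
  {h : PB ⟶ PA} {LA : PA.Modules} {LB : PB.Modules}

theorem exists_pullback_twist_iso (hgen : 𝒜.IsGenDegOne) (hA : RelProj.IsRelProj 𝒜 pA chartA)
    (hB : RelProj.IsRelProj ℬ pB chartB) (hh : RelProj.IsRelProjMap φ hφ hirr chartA chartB h) {n : ℤ}
    {lamA : ∀ (U : S.Opens) (hU : IsAffineOpen U),
      LA ⟶ (Scheme.Modules.pushforward (RelProj.emb pA chartA U hU)).obj (GrTwist.twist (𝒜.deg U hU) (n * ((1 : ℕ) : ℤ)))}
    (hLA : RelProj.IsRelTwist 𝒜 pA chartA (n * ((1 : ℕ) : ℤ)) LA lamA)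
    {lamB : ∀ (U : S.Opens) (hU : IsAffineOpen U),
      LB ⟶ (Scheme.Modules.pushforward (RelProj.emb pB chartB U hU)).obj (GrTwist.twist (ℬ.deg U hU) (n * ((1 : ℕ) : ℤ)))}
    (hLB : RelProj.IsRelTwist ℬ pB chartB (n * ((1 : ℕ) : ℤ)) LB lamB) :
    Nonempty ((Scheme.Modules.pullback h).obj LA ≅ LB) := by
  obtain ⟨θ, hθ, -⟩ := existsUnique_twistComap hA hB hh hLA hLB
  let adj := Scheme.Modules.pullbackPushforwardAdjunction h
  let θ' := (adj.homEquiv _ _).symm θ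
  haveI : IsIso θ' := TwistLib.isIso_of_gen θ' fun x => by
    obtain ⟨U, hU, hxU⟩ := exists_chart_open (p := pB) x
    obtain ⟨y, rfl⟩ := (MiscFlat6.emb_opensRange (chart := chartB) U hU).ge hxU
    let i : Aff S := ⟨U, hU⟩
    let g := RelProj.gradedHomAt φ hφ U hU
    obtain ⟨a, ha, hya⟩ := GrTwistLib.exists_basicOpen_of_genDegOne _ (hgen U hU) (Proj.map g (hirr U hU) y)
    let D : PA.Opens := RelProj.emb pA chartA U hU ''ᵁ Proj.basicOpen (𝒜.deg U hU) a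
    have hD : D ≤ pA ⁻¹ᵁ U :=
      ((RelProj.emb pA chartA U hU).image_le_opensRange _).trans (MiscFlat6.emb_opensRange (chart := chartA) _ _).le
    have hpreA : RelProj.emb pA chartA U hU ⁻¹ᵁ D ≤ Proj.basicOpen (𝒜.deg U hU) a :=
      ((RelProj.emb pA chartA U hU).preimage_image_eq _).le
    obtain ⟨σ, hσ, hσg⟩ := exists_gen_chart hLA i hD hpreA (powUnit _ ha n)
    let D' : PB.Opens := h ⁻¹ᵁ D ⊓ pB ⁻¹ᵁ U
    have hyD : RelProj.emb pB chartB U hU y ∈ h ⁻¹ᵁ D := by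
      show h (RelProj.emb pB chartB U hU y) ∈ D
      rw [← Scheme.Hom.comp_apply, emb_comp_map hh i, Scheme.Hom.comp_apply]
      exact ⟨_, hya, rfl⟩
    have hga : g a ∈ ℬ.deg U hU 1 := g.map_mem ha
    have hmapA : ∀ z ∈ RelProj.emb pB chartB U hU ⁻¹ᵁ D',
        ProjectiveSpectrum.comap g (hirr U hU) z ∈ RelProj.emb pA chartA U hU ⁻¹ᵁ D := fun z hz =>
      (preimage_map hh i D).le hz.1
    have hpreB : RelProj.emb pB chartB U hU ⁻¹ᵁ D' ≤ Proj.basicOpen (ℬ.deg U hU) (g a) := fun z hz =>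
      hpreA (hmapA z hz)
    obtain ⟨τ, hτ, hτg⟩ := exists_gen_chart hLB i (inf_le_right : D' ≤ pB ⁻¹ᵁ U) hpreB (powUnit _ hga n)
    have hres : res LB (inf_le_left : D' ≤ h ⁻¹ᵁ D) (θ.app D σ) = τ := by
      refine (hLB.bijective U hU D' inf_le_right).1 (GrTwistLib.sec_ext fun z => ?_)
      have hz' : z.1 ∈ RelProj.emb pB chartB U hU ⁻¹ᵁ (h ⁻¹ᵁ D) := z.2.1
      have e1 : cval lamB i (res LB (inf_le_left : D' ≤ h ⁻¹ᵁ D) (θ.app D σ)) z =
          cval lamB i (θ.app D σ) ⟨z.1, hz'⟩ := cval_res i _ _ z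
      refine e1.trans ?_
      refine ((congrArg (fun ψ => GrTwistLib.val (ψ.app D σ) (⟨z.1, hz'⟩ :
          (RelProj.emb pB chartB U hU ⁻¹ᵁ (h ⁻¹ᵁ D) : (Proj (ℬ.deg U hU)).Opens))) (hθ i)).trans
        (chartComap_val hh i D σ ⟨z.1, hz'⟩ (hmapA z.1 z.2))).trans ?_
      refine Eq.trans ?_ (hτ z).symm
      refine (congrArg (GrTwist.locMap g (hirr U hU) z.1) (hσ ⟨_, hmapA z.1 z.2⟩)).trans ?_
      rw [Unit'.sec, Unit'.sec, GrTwistLib.val_fracSec, GrTwistLib.val_fracSec, GrTwist.locMap_mk]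
      obtain ⟨e2, e3⟩ := powUnit_map g ha hga rfl n
      exact congrArg₂ Localization.mk e2 (Subtype.ext e3)
    refine ⟨h ⁻¹ᵁ D, hyD, KFlatLib.puSec h σ, (AmpleDevLib.puSec_genOn h hσg).genAt hyD, ?_⟩
    have e : θ'.app (h ⁻¹ᵁ D) (KFlatLib.puSec h σ) = θ.app D σ :=
      congrArg (fun ψ => ψ.app D σ) ((adj.homEquiv_unit _ _ θ').symm.trans (Equiv.apply_symm_apply _ _))
    rw [e]
    exact (AmpleLib.genAt_res (inf_le_left : D' ≤ h ⁻¹ᵁ D) (θ.app D σ) (x := RelProj.emb pB chartB U hU y) ⟨hyD, hxU⟩).mp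
      (hres ▸ hτg.genAt _)
  exact ⟨asIso θ'⟩

end GrModLib6

end
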