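import Groth.Agent.GrModLib6.Comap
import Groth.Agent.GrModLib6.Rel

/-!
# Existence and uniqueness of the modules on a relative Proj attached to graded modules
-/

set_option autoImplicit false
universe u
open CategoryTheory CategoryTheory.Limits AlgebraicGeometry TopologicalSpace Opposite
open scoped HomogeneousIdeal

noncomputable section

namespace GrModLib6

variable {S P : Scheme.{u}}

variable (S) in
/-- affine opens -/
abbrev Aff : Type u := {U : S.Opens // IsAffineOpen U}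

/-- `j` is a basic open of `i` -/
def IsBasic (i j : Aff S) : Prop := ∃ r : Γ(S, i.1), j.1 = S.basicOpen r

theorem IsBasic.le {i j : Aff S} (h : IsBasic i j) : j.1 ≤ i.1 := by
  obtain ⟨r, hr⟩ := h
  exact hr.le.trans (S.basicOpen_le r)

theorem IsBasic.trans {i j k : Aff S} (h : IsBasic i j) (h' : IsBasic j k) : IsBasic i k := by
  obtain ⟨U, hU⟩ := i
  obtain ⟨V, hV⟩ := j
  obtain ⟨W, hW⟩ := k
  obtain ⟨r, hr⟩ := h
  obtain ⟨r', hr'⟩ := h'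
  dsimp only at r r' hr hr'
  subst hr
  obtain ⟨f, hf⟩ := hU.basicOpen_basicOpen_is_basicOpen r r'
  exact ⟨f, hr'.trans hf.symm⟩

theorem exists_isBasic_inter {i j : Aff S} {x : S} (hi : x ∈ i.1) (hj : x ∈ j.1) :
    ∃ k, IsBasic i k ∧ IsBasic j k ∧ x ∈ k.1 := by
  obtain ⟨f, g, e, hx⟩ := exists_basicOpen_le_affine_inter i.2 j.2 x ⟨hi, hj⟩
  exact ⟨⟨S.basicOpen f, i.2.basicOpen f⟩, ⟨f, rfl⟩, ⟨g, e⟩, hx⟩

variable {𝒮 : RelProj.QCGrAlg S} {p : P ⟶ S}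
  {chart : ∀ (U : S.Opens) (hU : IsAffineOpen U), (((p ⁻¹ᵁ U : P.Opens) : Scheme.{u}) ≅ Proj (𝒮.deg U hU))}
  {n : ℤ}

theorem res_res (i j k : Aff S) (h : j.1 ≤ i.1) (h' : k.1 ≤ j.1) (x : 𝒮.presheaf.obj (op i.1)) :
    𝒮.res j.2 k.2 h' (𝒮.res i.2 j.2 h x) = 𝒮.res i.2 k.2 (h'.trans h) x := by
  show (𝒮.presheaf.map (homOfLE h').op).hom ((𝒮.presheaf.map (homOfLE h).op).hom x) = _
  rw [← RingHom.comp_apply, ← CommRingCat.hom_comp, ← Functor.map_comp]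
  rfl

variable (𝒮) in
theorem IsBasic.irr {i j : Aff S} (h : IsBasic i j) :
    (𝒮.deg j.1 j.2)₊ ≤ ((𝒮.deg i.1 i.2)₊).map (𝒮.res i.2 j.2 h.le) := by
  obtain ⟨U, hU⟩ := i
  obtain ⟨V, hV⟩ := j
  obtain ⟨r, hr⟩ := id h
  dsimp only at r hr
  subst hr
  exact 𝒮.irrelevant_le_map U hU r

variable (𝒮) in
/-- the morphism of charts -/
abbrev pmap {i j : Aff S} (h : IsBasic i j) : Proj (𝒮.deg j.1 j.2) ⟶ Proj (𝒮.deg i.1 i.2) :=
  Proj.map (𝒮.res i.2 j.2 h.le) (h.irr 𝒮)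

theorem pmap_emb (hP : RelProj.IsRelProj 𝒮 p chart) {i j : Aff S} (h : IsBasic i j) :
    pmap 𝒮 h ≫ RelProj.emb p chart i.1 i.2 = RelProj.emb p chart j.1 j.2 := by
  obtain ⟨U, hU⟩ := i
  obtain ⟨V, hV⟩ := j
  obtain ⟨r, hr⟩ := id h
  dsimp only at r hr
  subst hr
  exact RelProj.map_res_emb hP U hU r

theorem isOpenImmersion_pmap (hP : RelProj.IsRelProj 𝒮 p chart) {i j : Aff S} (h : IsBasic i j) :
    IsOpenImmersion (pmap 𝒮 h) := by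
  haveI : IsOpenImmersion (pmap 𝒮 h ≫ RelProj.emb p chart i.1 i.2) := by rw [pmap_emb hP h]; infer_instance
  exact IsOpenImmersion.of_comp _ (RelProj.emb p chart i.1 i.2)

theorem preimage_le_range_pmap (hP : RelProj.IsRelProj 𝒮 p chart) {i j : Aff S} (h : IsBasic i j)
    [IsOpenImmersion (pmap 𝒮 h)] {W : P.Opens} (hW : W ≤ p ⁻¹ᵁ j.1) :
    RelProj.emb p chart i.1 i.2 ⁻¹ᵁ W ≤ (pmap 𝒮 h).opensRange := by
  intro x hx
  obtain ⟨w, hw⟩ := (MiscFlat6.emb_opensRange (chart := chart) j.1 j.2).ge (hW hx)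
  refine ⟨w, (RelProj.emb p chart i.1 i.2).isOpenEmbedding.injective ?_⟩
  rw [← Scheme.Hom.comp_apply, pmap_emb hP h]
  exact hw

theorem comap_comap_eq {i j k : Aff S} (h : IsBasic i j) (h' : IsBasic j k)
    (y : ProjectiveSpectrum (𝒮.deg k.1 k.2)) :
    ProjectiveSpectrum.comap (𝒮.res i.2 j.2 h.le) (h.irr 𝒮) (ProjectiveSpectrum.comap (𝒮.res j.2 k.2 h'.le) (h'.irr 𝒮) y) =
      ProjectiveSpectrum.comap (𝒮.res i.2 k.2 (h.trans h').le) ((h.trans h').irr 𝒮) y := by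
  refine ProjectiveSpectrum.ext (HomogeneousIdeal.ext (Ideal.ext fun a => ?_))
  show 𝒮.res j.2 k.2 h'.le (𝒮.res i.2 j.2 h.le a) ∈ y.asHomogeneousIdeal ↔ 𝒮.res i.2 k.2 (h.trans h').le a ∈ y.asHomogeneousIdeal
  rw [res_res]

/-! ## The comparison maps -/

/-- a morphism to a direct image along the chart map, moved to `P` -/
def moved (hP : RelProj.IsRelProj 𝒮 p chart) {i j : Aff S} (h : IsBasic i j)
    {T : (Proj (𝒮.deg i.1 i.2)).Modules} {T' : (Proj (𝒮.deg j.1 j.2)).Modules}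
    (γ : T ⟶ (Scheme.Modules.pushforward (pmap 𝒮 h)).obj T') :
    (Scheme.Modules.pushforward (RelProj.emb p chart i.1 i.2)).obj T ⟶
      (Scheme.Modules.pushforward (RelProj.emb p chart j.1 j.2)).obj T' :=
  (Scheme.Modules.pushforward (RelProj.emb p chart i.1 i.2)).map γ ≫
    (Scheme.Modules.pushforwardComp (pmap 𝒮 h) (RelProj.emb p chart i.1 i.2)).hom.app T' ≫
    (Scheme.Modules.pushforwardCongr (pmap_emb hP h)).hom.app T'

theorem moved_app (hP : RelProj.IsRelProj 𝒮 p chart) {i j : Aff S} (h : IsBasic i j)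
    {T : (Proj (𝒮.deg i.1 i.2)).Modules} {T' : (Proj (𝒮.deg j.1 j.2)).Modules}
    (γ : T ⟶ (Scheme.Modules.pushforward (pmap 𝒮 h)).obj T') (W : P.Opens)
    (hW : RelProj.emb p chart j.1 j.2 ⁻¹ᵁ W = pmap 𝒮 h ⁻¹ᵁ (RelProj.emb p chart i.1 i.2 ⁻¹ᵁ W))
    (s : Γ(T, RelProj.emb p chart i.1 i.2 ⁻¹ᵁ W)) :
    (moved hP h γ).app W s = T'.presheaf.map (homOfLE hW.le).op (γ.app _ s) := rfl

theorem preimage_pmap (hP : RelProj.IsRelProj 𝒮 p chart) {i j : Aff S} (h : IsBasic i j) (W : P.Opens) :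
    RelProj.emb p chart j.1 j.2 ⁻¹ᵁ W = pmap 𝒮 h ⁻¹ᵁ (RelProj.emb p chart i.1 i.2 ⁻¹ᵁ W) := by
  rw [← Scheme.Hom.comp_preimage, pmap_emb hP h]

theorem moved_bijective (hP : RelProj.IsRelProj 𝒮 p chart) {i j : Aff S} (h : IsBasic i j)
    {T : (Proj (𝒮.deg i.1 i.2)).Modules} {T' : (Proj (𝒮.deg j.1 j.2)).Modules}
    (γ : T ⟶ (Scheme.Modules.pushforward (pmap 𝒮 h)).obj T') (W : P.Opens)
    (hγ : Function.Bijective (γ.app (RelProj.emb p chart i.1 i.2 ⁻¹ᵁ W))) :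
    Function.Bijective ((moved hP h γ).app W) := by
  have e := preimage_pmap hP h W
  have hb : Function.Bijective (T'.presheaf.map (homOfLE e.le).op) := by
    haveI : IsIso (homOfLE e.le).op := ⟨(homOfLE e.ge).op, rfl, rfl⟩
    exact ConcreteCategory.bijective_of_isIso _
  exact (funext fun s => moved_app hP h γ W e s : ⇑((moved hP h γ).app W) = _) ▸ hb.comp hγ

theorem cut_pushforward (i : Aff S) (T : (Proj (𝒮.deg i.1 i.2)).Modules) (W : P.Opens) :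
    Function.Bijective (ModGlueLib.rs ((Scheme.Modules.pushforward (RelProj.emb p chart i.1 i.2)).obj T)
      (inf_le_left : W ⊓ p ⁻¹ᵁ i.1 ≤ W)) := by
  have e : RelProj.emb p chart i.1 i.2 ⁻¹ᵁ W ≤ RelProj.emb p chart i.1 i.2 ⁻¹ᵁ (W ⊓ p ⁻¹ᵁ i.1) :=
    fun z hz => ⟨hz, (MiscFlat6.emb_opensRange (chart := chart) i.1 i.2).le ⟨z, rfl⟩⟩
  let f : RelProj.emb p chart i.1 i.2 ⁻¹ᵁ (W ⊓ p ⁻¹ᵁ i.1) ⟶ RelProj.emb p chart i.1 i.2 ⁻¹ᵁ W :=
    homOfLE (fun z hz => hz.1)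
  haveI : IsIso f.op := ⟨(homOfLE e).op, rfl, rfl⟩
  exact ConcreteCategory.bijective_of_isIso (T.presheaf.map f.op)

/-! ## The gluing data -/

section Tilde

variable (ℳ : RelProj.GrModule 𝒮)

theorem ires_ires (i j k : Aff S) (h : j.1 ≤ i.1) (h' : k.1 ≤ j.1) (m : ℳ.mod.val.obj (op i.1)) :
    ℳ.res j.2 k.2 h' (ℳ.res i.2 j.2 h m) = ℳ.res i.2 k.2 (h'.trans h) m := by
  show (ℳ.mod.val.map (homOfLE h').op).hom ((ℳ.mod.val.map (homOfLE h).op).hom m) = _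
  exact (PresheafOfModules.map_comp_apply ℳ.mod.val (homOfLE h).op (homOfLE h').op m).symm

theorem isUnit_str {U : S.Opens} (hU : IsAffineOpen U) (r : Γ(S, U)) :
    IsUnit (𝒮.res hU (hU.basicOpen r) (S.basicOpen_le r) ((𝒮.str.app (op U)).hom r)) := by
  have e : 𝒮.res hU (hU.basicOpen r) (S.basicOpen_le r) ((𝒮.str.app (op U)).hom r) =
      (𝒮.str.app (op (S.basicOpen r))).hom (S.presheaf.map (homOfLE (S.basicOpen_le r)).op r) :=
    (ConcreteCategory.congr_hom (𝒮.str.naturality (homOfLE (S.basicOpen_le r)).op) r).symm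
  rw [e]
  exact (S.toRingedSpace.isUnit_res_basicOpen r).map _

theorem surj_alg {U : S.Opens} (hU : IsAffineOpen U) (r : Γ(S, U)) (b : 𝒮.presheaf.obj (op (S.basicOpen r))) :
    ∃ (k : ℕ) (a : 𝒮.presheaf.obj (op U)), 𝒮.res hU (hU.basicOpen r) (S.basicOpen_le r) a =
      𝒮.res hU (hU.basicOpen r) (S.basicOpen_le r) ((𝒮.str.app (op U)).hom r) ^ k * b := by
  let _inst := (𝒮.presheaf.map (homOfLE (S.basicOpen_le r)).op).hom.toAlgebra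
  have hloc : IsLocalization.Away ((𝒮.str.app (op U)).hom r) (𝒮.presheaf.obj (op (S.basicOpen r))) := 𝒮.isQC U hU r
  obtain ⟨⟨x, s, hs⟩, hxs⟩ := IsLocalization.surj (Submonoid.powers ((𝒮.str.app (op U)).hom r)) b
  obtain ⟨k, rfl⟩ := (Submonoid.mem_powers_iff _ _).mp hs
  refine ⟨k, x, ?_⟩
  rw [← map_pow, mul_comm]
  exact hxs.symm

theorem isInverting_res (hℳ : Coh.IsQCoh ((AMod.toOS 𝒮.toQCAlg).obj ℳ.mod)) {i j : Aff S} (h : IsBasic i j) :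
    ∃ c, IsInverting (𝒮.res i.2 j.2 h.le) (ℳ.res i.2 j.2 h.le) c := by
  obtain ⟨U, hU⟩ := i
  obtain ⟨V, hV⟩ := j
  obtain ⟨r, hr⟩ := id h
  dsimp only at r hr
  subst hr
  obtain ⟨hE, hZ⟩ := @QCohLib.localizingAt_of_isQCoh _ _ hU ((AMod.toOS 𝒮.toQCAlg).obj ℳ.mod) hℳ r
  refine ⟨(𝒮.str.app (op U)).hom r, 𝒮.str_mem U hU r, isUnit_str hU r, surj_alg hU r, fun q => ?_, fun m hm => ?_⟩
  · obtain ⟨k, t, ht⟩ := hE q
    refine ⟨k, t, ht.trans ?_⟩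
    show (𝒮.str.app (op (S.basicOpen r))).hom ((S.presheaf.map (homOfLE (S.basicOpen_le r)).op r) ^ k) • q = _
    rw [map_pow]
    refine congrArg (fun z => z ^ k • (q : ℳ.mod.val.obj (op (S.basicOpen r)))) ?_
    exact ConcreteCategory.congr_hom (𝒮.str.naturality (homOfLE (S.basicOpen_le r)).op) r
  · obtain ⟨k, hk⟩ := hZ m hm
    refine ⟨k, ?_⟩
    rw [← map_pow]
    simp only [homOfLE_refl, op_id, CategoryTheory.Functor.map_id] at hk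
    exact hk

/-- the comparison map of two chart modules -/
def δT (hP : RelProj.IsRelProj 𝒮 p chart) (n : ℤ) {i j : Aff S} (h : IsBasic i j) :
    (Scheme.Modules.pushforward (RelProj.emb p chart i.1 i.2)).obj (GrMod.tilde (𝒮.deg i.1 i.2) (ℳ.deg i.1 i.2) n) ⟶
      (Scheme.Modules.pushforward (RelProj.emb p chart j.1 j.2)).obj (GrMod.tilde (𝒮.deg j.1 j.2) (ℳ.deg j.1 j.2) n) :=
  moved hP h (GrMod.comap (𝒜 := 𝒮.deg i.1 i.2) (ℬ := 𝒮.deg j.1 j.2) (ℳ := ℳ.deg i.1 i.2) (𝒩 := ℳ.deg j.1 j.2)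
    (𝒮.res i.2 j.2 h.le) (h.irr 𝒮) (ℳ.res i.2 j.2 h.le) (fun a m hm => ℳ.res_mem i.2 j.2 h.le a m hm) n)

theorem δT_val (hP : RelProj.IsRelProj 𝒮 p chart) (n : ℤ) {i j : Aff S} (h : IsBasic i j) (W : P.Opens)
    (s : Γ(GrMod.tilde (𝒮.deg i.1 i.2) (ℳ.deg i.1 i.2) n, RelProj.emb p chart i.1 i.2 ⁻¹ᵁ W))
    (y : (RelProj.emb p chart j.1 j.2 ⁻¹ᵁ W : (Proj (𝒮.deg j.1 j.2)).Opens))
    (hy : ProjectiveSpectrum.comap (𝒮.res i.2 j.2 h.le) (h.irr 𝒮) y.1 ∈ RelProj.emb p chart i.1 i.2 ⁻¹ᵁ W) :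
    val (𝒜 := 𝒮.deg j.1 j.2) (ℳ := ℳ.deg j.1 j.2) (n := n) (V := RelProj.emb p chart j.1 j.2 ⁻¹ᵁ W)
        ((δT ℳ hP n h).app W s) y =
      GrMod.locModMap (𝒮.res i.2 j.2 h.le) (h.irr 𝒮) (ℳ.res i.2 j.2 h.le) y.1 (val s ⟨_, hy⟩) := rfl

theorem locModMap_cocycle {i j k : Aff S} (h : IsBasic i j) (h' : IsBasic j k) {V : (Proj (𝒮.deg i.1 i.2)).Opens}
    (s : Γ(GrMod.tilde (𝒮.deg i.1 i.2) (ℳ.deg i.1 i.2) n, V)) (y : ProjectiveSpectrum (𝒮.deg k.1 k.2))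
    (h1 : ProjectiveSpectrum.comap (𝒮.res i.2 j.2 h.le) (h.irr 𝒮)
      (ProjectiveSpectrum.comap (𝒮.res j.2 k.2 h'.le) (h'.irr 𝒮) y) ∈ V)
    (h2 : ProjectiveSpectrum.comap (𝒮.res i.2 k.2 (h.trans h').le) ((h.trans h').irr 𝒮) y ∈ V) :
    GrMod.locModMap (𝒮.res j.2 k.2 h'.le) (h'.irr 𝒮) (ℳ.res j.2 k.2 h'.le) y
        (GrMod.locModMap (𝒮.res i.2 j.2 h.le) (h.irr 𝒮) (ℳ.res i.2 j.2 h.le) _ (val s ⟨_, h1⟩)) =
      GrMod.locModMap (𝒮.res i.2 k.2 (h.trans h').le) ((h.trans h').irr 𝒮) (ℳ.res i.2 k.2 (h.trans h').le) y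
        (val s ⟨_, h2⟩) := by
  obtain ⟨W', hxW', hW', a, b, m, q, hm, hq, hnin, -, hw⟩ := val_exists s ⟨_, h2⟩
  have hx1 : ProjectiveSpectrum.comap (𝒮.res i.2 j.2 h.le) (h.irr 𝒮)
      (ProjectiveSpectrum.comap (𝒮.res j.2 k.2 h'.le) (h'.irr 𝒮) y) ∈ W' := by
    rw [comap_comap_eq h h' y]; exact hxW'
  have e1 : val s ⟨_, h1⟩ = _ := hw ⟨_, hx1⟩
  have e2 : val s ⟨_, h2⟩ = _ := hw ⟨_, hxW'⟩
  rw [e1, e2, GrMod.locModMap_mk, GrMod.locModMap_mk, GrMod.locModMap_mk]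
  refine mk_congr ?_
  show 𝒮.res i.2 k.2 _ q • ℳ.res j.2 k.2 _ (ℳ.res i.2 j.2 _ m) =
    𝒮.res j.2 k.2 _ (𝒮.res i.2 j.2 _ q) • ℳ.res i.2 k.2 _ m
  rw [res_res, ires_ires]

theorem δT_comp (hP : RelProj.IsRelProj 𝒮 p chart) (n : ℤ) {i j k : Aff S} (h : IsBasic i j) (h' : IsBasic j k) :
    δT ℳ hP n h ≫ δT ℳ hP n h' = δT ℳ hP n (h.trans h') := by
  refine Scheme.Modules.hom_ext _ _ fun W => ConcreteCategory.hom_ext _ _ fun s => ?_
  refine sec_ext fun y => ?_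
  have hy := (preimage_pmap hP h' W).le y.2
  have h1 := (preimage_pmap hP h W).le hy
  exact ((δT_val ℳ hP n h' W _ y hy).trans (congrArg _ (δT_val ℳ hP n h W s ⟨_, hy⟩ h1))).trans
    ((locModMap_cocycle ℳ h h' s y.1 h1 ((preimage_pmap hP (h.trans h') W).le y.2)).trans
      (δT_val ℳ hP n (h.trans h') W s y ((preimage_pmap hP (h.trans h') W).le y.2)).symm)

theorem δT_bij (hP : RelProj.IsRelProj 𝒮 p chart) (hℳ : Coh.IsQCoh ((AMod.toOS 𝒮.toQCAlg).obj ℳ.mod)) (n : ℤ)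
    {i j : Aff S} (h : IsBasic i j) (W : P.Opens) (hW : W ≤ p ⁻¹ᵁ j.1) :
    Function.Bijective ((δT ℳ hP n h).app W) := by
  haveI := isOpenImmersion_pmap hP h
  obtain ⟨c, hc⟩ := isInverting_res ℳ hℳ h
  exact moved_bijective hP h _ W (hc.comap_bijective (h.irr 𝒮) _ (preimage_le_range_pmap hP h hW))

/-- the gluing data of `(ℳ(n))~` -/
def datum (hP : RelProj.IsRelProj 𝒮 p chart) (hℳ : Coh.IsQCoh ((AMod.toOS 𝒮.toQCAlg).obj ℳ.mod)) (n : ℤ) :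
    ModGlueLib.Datum P where
  J := Aff S
  V i := p ⁻¹ᵁ i.1
  T i := (Scheme.Modules.pushforward (RelProj.emb p chart i.1 i.2)).obj (GrMod.tilde (𝒮.deg i.1 i.2) (ℳ.deg i.1 i.2) n)
  R := IsBasic
  δ h := δT ℳ hP n h
  trans := IsBasic.trans
  le h := p.preimage_mono h.le
  δ_comp := δT_comp ℳ hP n
  bij := δT_bij ℳ hP hℳ n
  cover x := by
    obtain ⟨U, hU, hx⟩ := exists_chart_open (p := p) x
    exact ⟨⟨U, hU⟩, hx⟩
  inter {i j x} hi hj := exists_isBasic_inter (x := p x) hi hj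
  cut i W := cut_pushforward i _ W

variable {ℳ} {F : P.Modules}
  {lam : ∀ (U : S.Opens) (hU : IsAffineOpen U),
    F ⟶ (Scheme.Modules.pushforward (RelProj.emb p chart U hU)).obj (GrMod.tilde (𝒮.deg U hU) (ℳ.deg U hU) n)}

theorem compat_of_isRelTilde (hP : RelProj.IsRelProj 𝒮 p chart) (hℳ : Coh.IsQCoh ((AMod.toOS 𝒮.toQCAlg).obj ℳ.mod))
    (hF : RelProj.IsRelTilde 𝒮 p chart ℳ n F lam) (i j : Aff S) (h : IsBasic i j) :
    lam i.1 i.2 ≫ (datum ℳ hP hℳ n).δ h = lam j.1 j.2 := by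
  refine Scheme.Modules.hom_ext _ _ fun W => ConcreteCategory.hom_ext _ _ fun s => ?_
  obtain ⟨U, hU⟩ := i
  obtain ⟨V, hV⟩ := j
  obtain ⟨r, hr⟩ := id h
  dsimp only at r hr
  subst hr
  refine sec_ext fun y => ?_
  exact (δT_val ℳ hP n h W _ y ((preimage_pmap hP h W).le y.2)).trans
    (hF.compat U hU r W s y.1 y.2 ((preimage_pmap hP h W).le y.2)).symm

theorem isRelTilde_of_compat (hP : RelProj.IsRelProj 𝒮 p chart) (hℳ : Coh.IsQCoh ((AMod.toOS 𝒮.toQCAlg).obj ℳ.mod))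
    (hb : ∀ (i : Aff S) (W : P.Opens), W ≤ p ⁻¹ᵁ i.1 → Function.Bijective ((lam i.1 i.2).app W))
    (hc : ∀ (i j : Aff S) (h : IsBasic i j), lam i.1 i.2 ≫ (datum ℳ hP hℳ n).δ h = lam j.1 j.2) :
    RelProj.IsRelTilde 𝒮 p chart ℳ n F lam := by
  refine ⟨fun U hU W hW => hb ⟨U, hU⟩ W hW, fun U hU r W s y hy hy' => ?_⟩
  have h : IsBasic (⟨U, hU⟩ : Aff S) ⟨S.basicOpen r, hU.basicOpen r⟩ := ⟨r, rfl⟩
  have e := congrArg (fun φ => φ.app W s) (hc _ _ h)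
  exact (congrArg (fun z => val z ⟨y, hy⟩) e.symm).trans (δT_val ℳ hP n h W _ ⟨y, hy⟩ hy')


variable {ℳ : RelProj.GrModule 𝒮}

theorem exists_isRelTilde (hP : RelProj.IsRelProj 𝒮 p chart) (hℳ : Coh.IsQCoh ((AMod.toOS 𝒮.toQCAlg).obj ℳ.mod))
    (n : ℤ) : ∃ (F : P.Modules) (lam : ∀ (U : S.Opens) (hU : IsAffineOpen U),
      F ⟶ (Scheme.Modules.pushforward (RelProj.emb p chart U hU)).obj (GrMod.tilde (𝒮.deg U hU) (ℳ.deg U hU) n)),
      RelProj.IsRelTilde 𝒮 p chart ℳ n F lam :=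
  ⟨ModGlueLib.glue (datum ℳ hP hℳ n), _,
    isRelTilde_of_compat (ℳ := ℳ) (n := n) (F := ModGlueLib.glue (datum ℳ hP hℳ n))
      (lam := fun U hU => ModGlueLib.π (datum ℳ hP hℳ n) ⟨U, hU⟩) hP hℳ
      (fun i _ hW => ModGlueLib.π_bijective (datum ℳ hP hℳ n) i hW)
      fun i j h => ModGlueLib.π_comp (datum ℳ hP hℳ n) (i := i) (j := j) h⟩

variable {F : P.Modules}
  {lam : ∀ (U : S.Opens) (hU : IsAffineOpen U),
    F ⟶ (Scheme.Modules.pushforward (RelProj.emb p chart U hU)).obj (GrMod.tilde (𝒮.deg U hU) (ℳ.deg U hU) n)}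
  {F' : P.Modules}
  {lam' : ∀ (U : S.Opens) (hU : IsAffineOpen U),
    F' ⟶ (Scheme.Modules.pushforward (RelProj.emb p chart U hU)).obj (GrMod.tilde (𝒮.deg U hU) (ℳ.deg U hU) n)}

theorem relTilde_unique (hP : RelProj.IsRelProj 𝒮 p chart) (hℳ : Coh.IsQCoh ((AMod.toOS 𝒮.toQCAlg).obj ℳ.mod))
    (hF : RelProj.IsRelTilde 𝒮 p chart ℳ n F lam) (hF' : RelProj.IsRelTilde 𝒮 p chart ℳ n F' lam') :
    (∃! φ : F ⟶ F', ∀ (U : S.Opens) (hU : IsAffineOpen U), φ ≫ lam' U hU = lam U hU) ∧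
      ∀ φ : F ⟶ F', (∀ (U : S.Opens) (hU : IsAffineOpen U), φ ≫ lam' U hU = lam U hU) → IsIso φ := by
  obtain ⟨φ, hφ, huniq⟩ := ModGlueLib.existsUnique_lift (D := datum ℳ hP hℳ n) (fun i => lam' i.1 i.2)
    (fun i W hW => hF'.bijective i.1 i.2 W hW) (compat_of_isRelTilde hP hℳ hF') (fun i => lam i.1 i.2)
    (compat_of_isRelTilde hP hℳ hF)
  exact ⟨⟨φ, fun U hU => hφ ⟨U, hU⟩, fun ψ hψ => huniq ψ fun i => hψ i.1 i.2⟩,
    fun ψ hψ => ModGlueLib.isIso_of_compat (D := datum ℳ hP hℳ n) (fun i => lam' i.1 i.2)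
      (fun i W hW => hF'.bijective i.1 i.2 W hW) (fun i => lam i.1 i.2) (fun i W hW => hF.bijective i.1 i.2 W hW)
      ψ fun i => hψ i.1 i.2⟩

theorem existsUnique_relTilde_map {𝒩 : RelProj.GrModule 𝒮} {G : P.Modules}
    {lamG : ∀ (U : S.Opens) (hU : IsAffineOpen U),
      G ⟶ (Scheme.Modules.pushforward (RelProj.emb p chart U hU)).obj (GrMod.tilde (𝒮.deg U hU) (𝒩.deg U hU) n)}
    (hP : RelProj.IsRelProj 𝒮 p chart) (h𝒩 : Coh.IsQCoh ((AMod.toOS 𝒮.toQCAlg).obj 𝒩.mod))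
    (hℳ : Coh.IsQCoh ((AMod.toOS 𝒮.toQCAlg).obj ℳ.mod))
    (u : ℳ.mod ⟶ 𝒩.mod) (hu : RelProj.IsGrModHom u)
    (hF : RelProj.IsRelTilde 𝒮 p chart ℳ n F lam) (hG : RelProj.IsRelTilde 𝒮 p chart 𝒩 n G lamG) :
    ∃! ut : F ⟶ G, IsInduced hu lam lamG ut := by
  let uu : ∀ i : Aff S, GrMod.tilde (𝒮.deg i.1 i.2) (ℳ.deg i.1 i.2) n ⟶ GrMod.tilde (𝒮.deg i.1 i.2) (𝒩.deg i.1 i.2) n :=
    fun i => GrMod.map (𝒮.deg i.1 i.2) (secHom u i.1) (hu i.1 i.2) n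
  let ψ : ∀ i : Aff S, F ⟶ (Scheme.Modules.pushforward (RelProj.emb p chart i.1 i.2)).obj
      (GrMod.tilde (𝒮.deg i.1 i.2) (𝒩.deg i.1 i.2) n) :=
    fun i => lam i.1 i.2 ≫ (Scheme.Modules.pushforward (RelProj.emb p chart i.1 i.2)).map (uu i)
  have hsq : ∀ (i j : Aff S) (h : IsBasic i j),
      (Scheme.Modules.pushforward (RelProj.emb p chart i.1 i.2)).map (uu i) ≫ δT 𝒩 hP n h =
        δT ℳ hP n h ≫ (Scheme.Modules.pushforward (RelProj.emb p chart j.1 j.2)).map (uu j) := fun i j h => by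
    refine Scheme.Modules.hom_ext _ _ fun W => ConcreteCategory.hom_ext _ _ fun s => ?_
    refine sec_ext fun y => ?_
    have hy := (preimage_pmap hP h W).le y.2
    refine (δT_val 𝒩 hP n h W _ y hy).trans ?_
    refine Eq.trans ?_ (congrArg (GrMod.locMap (secHom u j.1) y.1) (δT_val ℳ hP n h W s y hy)).symm
    obtain ⟨W', hxW', hW', a, b, m, q, hm, hq, hnin, -, hw⟩ := val_exists s ⟨_, hy⟩
    refine (congrArg (fun z => GrMod.locModMap _ _ _ y.1 (GrMod.locMap (secHom u i.1) _ z)) (hw ⟨_, hxW'⟩)).trans ?_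
    refine Eq.trans ?_ (congrArg (fun z => GrMod.locMap (secHom u j.1) y.1 (GrMod.locModMap _ _ _ y.1 z))
      (hw ⟨_, hxW'⟩)).symm
    refine ((congrArg _ (GrMod.locMap_mk (secHom u i.1) _ m _)).trans (GrMod.locModMap_mk _ _ _ _ _ _)).trans ?_
    refine Eq.trans ?_ ((congrArg (GrMod.locMap (secHom u j.1) y.1) (GrMod.locModMap_mk _ _ _ _ m _)).trans
      (GrMod.locMap_mk (secHom u j.1) _ _ _)).symm
    refine mk_congr ?_
    show 𝒮.res i.2 j.2 _ q • 𝒩.res i.2 j.2 _ (secHom u i.1 m) = 𝒮.res i.2 j.2 _ q • secHom u j.1 (ℳ.res i.2 j.2 _ m)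
    congr 1
    exact (PresheafOfModules.naturality_apply u.val (homOfLE h.le).op m).symm
  obtain ⟨φ, hφ, huniq⟩ := ModGlueLib.existsUnique_lift (D := datum 𝒩 hP h𝒩 n) (fun i => lamG i.1 i.2)
    (fun i W hW => hG.bijective i.1 i.2 W hW) (compat_of_isRelTilde hP h𝒩 hG) ψ (fun i j h => by
      show (lam i.1 i.2 ≫ _) ≫ δT 𝒩 hP n h = lam j.1 j.2 ≫ _
      rw [Category.assoc, hsq i j h, ← Category.assoc]
      exact congrArg (· ≫ _) (compat_of_isRelTilde hP hℳ hF i j h))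
  exact ⟨φ, fun U hU => hφ ⟨U, hU⟩, fun ψ' hψ' => huniq ψ' fun i => hψ' i.1 i.2⟩

end Tilde

/-! ## The twists -/

theorem isInverting_alg {i j : Aff S} (h : IsBasic i j) :
    ∃ c, IsInverting (𝒮.res i.2 j.2 h.le) (𝒮.res i.2 j.2 h.le).toRingHom.toSemilinearMap c := by
  obtain ⟨U, hU⟩ := i
  obtain ⟨V, hV⟩ := j
  obtain ⟨r, hr⟩ := id h
  dsimp only at r hr
  subst hr
  let _inst := (𝒮.presheaf.map (homOfLE (S.basicOpen_le r)).op).hom.toAlgebra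
  have hloc : IsLocalization.Away ((𝒮.str.app (op U)).hom r) (𝒮.presheaf.obj (op (S.basicOpen r))) := 𝒮.isQC U hU r
  refine ⟨(𝒮.str.app (op U)).hom r, 𝒮.str_mem U hU r, isUnit_str hU r, surj_alg hU r, surj_alg hU r, fun m hm => ?_⟩
  obtain ⟨⟨_, k, rfl⟩, hk⟩ := (IsLocalization.map_eq_zero_iff (Submonoid.powers ((𝒮.str.app (op U)).hom r))
    (𝒮.presheaf.obj (op (S.basicOpen r))) m).mp hm
  exact ⟨k, hk⟩

/-- the comparison map of two chart twists -/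
def δW (hP : RelProj.IsRelProj 𝒮 p chart) (n : ℤ) {i j : Aff S} (h : IsBasic i j) :
    (Scheme.Modules.pushforward (RelProj.emb p chart i.1 i.2)).obj (GrTwist.twist (𝒮.deg i.1 i.2) n) ⟶
      (Scheme.Modules.pushforward (RelProj.emb p chart j.1 j.2)).obj (GrTwist.twist (𝒮.deg j.1 j.2) n) :=
  moved hP h (GrTwist.comap (𝒮.res i.2 j.2 h.le) (h.irr 𝒮) n)

theorem δW_val (hP : RelProj.IsRelProj 𝒮 p chart) (n : ℤ) {i j : Aff S} (h : IsBasic i j) (W : P.Opens)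
    (s : Γ(GrTwist.twist (𝒮.deg i.1 i.2) n, RelProj.emb p chart i.1 i.2 ⁻¹ᵁ W))
    (y : (RelProj.emb p chart j.1 j.2 ⁻¹ᵁ W : (Proj (𝒮.deg j.1 j.2)).Opens))
    (hy : ProjectiveSpectrum.comap (𝒮.res i.2 j.2 h.le) (h.irr 𝒮) y.1 ∈ RelProj.emb p chart i.1 i.2 ⁻¹ᵁ W) :
    GrTwistLib.val (𝒜 := 𝒮.deg j.1 j.2) (n := n) (V := RelProj.emb p chart j.1 j.2 ⁻¹ᵁ W)
        ((δW hP n h).app W s) y =
      GrTwist.locMap (𝒮.res i.2 j.2 h.le) (h.irr 𝒮) y.1 (GrTwistLib.val s ⟨_, hy⟩) := rfl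

theorem locMap_cocycle {i j k : Aff S} (h : IsBasic i j) (h' : IsBasic j k) {V : (Proj (𝒮.deg i.1 i.2)).Opens}
    (s : Γ(GrTwist.twist (𝒮.deg i.1 i.2) n, V)) (y : ProjectiveSpectrum (𝒮.deg k.1 k.2))
    (h1 : ProjectiveSpectrum.comap (𝒮.res i.2 j.2 h.le) (h.irr 𝒮)
      (ProjectiveSpectrum.comap (𝒮.res j.2 k.2 h'.le) (h'.irr 𝒮) y) ∈ V)
    (h2 : ProjectiveSpectrum.comap (𝒮.res i.2 k.2 (h.trans h').le) ((h.trans h').irr 𝒮) y ∈ V) :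
    GrTwist.locMap (𝒮.res j.2 k.2 h'.le) (h'.irr 𝒮) y
        (GrTwist.locMap (𝒮.res i.2 j.2 h.le) (h.irr 𝒮) _ (GrTwistLib.val s ⟨_, h1⟩)) =
      GrTwist.locMap (𝒮.res i.2 k.2 (h.trans h').le) ((h.trans h').irr 𝒮) y (GrTwistLib.val s ⟨_, h2⟩) := by
  obtain ⟨W', hxW', ι, a, b, m, q, hnin, -, hw⟩ :=
    (show GrTwist.sectN (𝒜 := 𝒮.deg i.1 i.2) n (op V) from s).2 ⟨_, h2⟩
  have hx1 : ProjectiveSpectrum.comap (𝒮.res i.2 j.2 h.le) (h.irr 𝒮)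
      (ProjectiveSpectrum.comap (𝒮.res j.2 k.2 h'.le) (h'.irr 𝒮) y) ∈ W' := by
    rw [comap_comap_eq h h' y]; exact hxW'
  have e1 : GrTwistLib.val s ⟨_, h1⟩ = _ := hw ⟨_, hx1⟩
  have e2 : GrTwistLib.val s ⟨_, h2⟩ = _ := hw ⟨_, hxW'⟩
  rw [e1, e2, GrTwist.locMap_mk, GrTwist.locMap_mk, GrTwist.locMap_mk]
  rw [Localization.mk_eq_mk_iff, Localization.r_iff_exists]
  refine ⟨1, ?_⟩
  show 1 * (𝒮.res i.2 k.2 _ q.1 * 𝒮.res j.2 k.2 _ (𝒮.res i.2 j.2 _ m.1)) =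
    1 * (𝒮.res j.2 k.2 _ (𝒮.res i.2 j.2 _ q.1) * 𝒮.res i.2 k.2 _ m.1)
  rw [res_res, res_res]

/-- the gluing data of `O(n)` -/
def twistDatum (hP : RelProj.IsRelProj 𝒮 p chart) (n : ℤ) : ModGlueLib.Datum P where
  J := Aff S
  V i := p ⁻¹ᵁ i.1
  T i := (Scheme.Modules.pushforward (RelProj.emb p chart i.1 i.2)).obj (GrTwist.twist (𝒮.deg i.1 i.2) n)
  R := IsBasic
  δ h := δW hP n h
  trans := IsBasic.trans
  le h := p.preimage_mono h.le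
  δ_comp {i j k} h h' := by
    refine Scheme.Modules.hom_ext _ _ fun W => ConcreteCategory.hom_ext _ _ fun s => ?_
    refine GrTwistLib.sec_ext fun y => ?_
    have hy := (preimage_pmap hP h' W).le y.2
    have h1 := (preimage_pmap hP h W).le hy
    exact ((δW_val hP n h' W _ y hy).trans (congrArg _ (δW_val hP n h W s ⟨_, hy⟩ h1))).trans
      ((locMap_cocycle h h' s y.1 h1 ((preimage_pmap hP (h.trans h') W).le y.2)).trans
        (δW_val hP n (h.trans h') W s y ((preimage_pmap hP (h.trans h') W).le y.2)).symm)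
  bij {i j} h W hW := by
    haveI := isOpenImmersion_pmap hP h
    obtain ⟨c, hc⟩ := isInverting_alg h
    exact moved_bijective hP h _ W (hc.twist_comap_bijective (h.irr 𝒮) (preimage_le_range_pmap hP h hW))
  cover x := by
    obtain ⟨U, hU, hx⟩ := exists_chart_open (p := p) x
    exact ⟨⟨U, hU⟩, hx⟩
  inter {i j x} hi hj := exists_isBasic_inter (x := p x) hi hj
  cut i W := cut_pushforward i _ W

theorem exists_isRelTwist (hP : RelProj.IsRelProj 𝒮 p chart) (n : ℤ) :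
    ∃ (L : P.Modules) (lam : ∀ (U : S.Opens) (hU : IsAffineOpen U),
      L ⟶ (Scheme.Modules.pushforward (RelProj.emb p chart U hU)).obj (GrTwist.twist (𝒮.deg U hU) n)),
      RelProj.IsRelTwist 𝒮 p chart n L lam := by
  refine ⟨ModGlueLib.glue (twistDatum hP n), fun U hU => ModGlueLib.π (twistDatum hP n) ⟨U, hU⟩,
    fun U hU W hW => ModGlueLib.π_bijective (twistDatum hP n) ⟨U, hU⟩ hW, fun U hU r W s y hy hy' => ?_⟩
  have h : IsBasic (⟨U, hU⟩ : Aff S) ⟨S.basicOpen r, hU.basicOpen r⟩ := ⟨r, rfl⟩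
  have e := ModGlueLib.π_app (twistDatum hP n) h s
  exact (congrArg (fun z => GrTwistLib.val z ⟨y, hy⟩) e.symm).trans (δW_val hP n h W _ ⟨y, hy⟩ hy')

theorem compat_of_isRelTwist (hP : RelProj.IsRelProj 𝒮 p chart) {L : P.Modules}
    {lam : ∀ (U : S.Opens) (hU : IsAffineOpen U),
      L ⟶ (Scheme.Modules.pushforward (RelProj.emb p chart U hU)).obj (GrTwist.twist (𝒮.deg U hU) n)}
    (hL : RelProj.IsRelTwist 𝒮 p chart n L lam) (i j : Aff S) (h : IsBasic i j) :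
    lam i.1 i.2 ≫ δW hP n h = lam j.1 j.2 := by
  refine Scheme.Modules.hom_ext _ _ fun W => ConcreteCategory.hom_ext _ _ fun s => ?_
  obtain ⟨U, hU⟩ := i
  obtain ⟨V, hV⟩ := j
  obtain ⟨r, hr⟩ := id h
  dsimp only at r hr
  subst hr
  refine GrTwistLib.sec_ext fun y => ?_
  exact (δW_val hP n h W _ y ((preimage_pmap hP h W).le y.2)).trans
    (hL.compat U hU r W s y.1 y.2 ((preimage_pmap hP h W).le y.2)).symm

end GrModLib6

end
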