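import Mathlib.AlgebraicGeometry.ProjectiveSpectrum.Basic
import Mathlib.RingTheory.GradedAlgebra.Radical

/-!
# Relevant primes and radicals
-/

set_option autoImplicit false
universe u

open AlgebraicGeometry TopologicalSpace

noncomputable section

namespace GrModLib6

variable {A σ : Type u} [CommRing A] [SetLike σ A] [AddSubgroupClass σ A] (𝒜 : ℕ → σ) [GradedRing 𝒜]

/-- the radical of a homogeneous ideal is seen by the relevant primes -/
theorem mem_radical_iff {I : Ideal A} (hI : I.IsHomogeneous 𝒜) {f : A}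
    (hf : f ∈ (HomogeneousIdeal.irrelevant 𝒜).toIdeal) :
    f ∈ I.radical ↔ ∀ x : ProjectiveSpectrum 𝒜, I ≤ x.asHomogeneousIdeal.toIdeal → f ∈ x.asHomogeneousIdeal := by
  refine ⟨fun h x hx => x.isPrime.radical_le_iff.mpr hx h, fun h => ?_⟩
  rw [hI.radical_eq, Submodule.mem_sInf]
  rintro J ⟨hJh, hIJ, hJp⟩
  by_cases hirr : HomogeneousIdeal.irrelevant 𝒜 ≤ ⟨J, hJh⟩
  · exact hirr hf
  · exact h ⟨⟨J, hJh⟩, hJp, hirr⟩ hIJ

theorem isHomogeneous_bot : (⊥ : Ideal A).IsHomogeneous 𝒜 := Ideal.IsHomogeneous.bot 𝒜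

theorem isNilpotent_iff {f : A} (hf : f ∈ (HomogeneousIdeal.irrelevant 𝒜).toIdeal) :
    IsNilpotent f ↔ ∀ x : ProjectiveSpectrum 𝒜, f ∈ x.asHomogeneousIdeal := by
  rw [show IsNilpotent f ↔ f ∈ (⊥ : Ideal A).radical from ⟨fun ⟨n, h⟩ => ⟨n, h⟩, fun ⟨n, h⟩ => ⟨n, h⟩⟩,
    mem_radical_iff 𝒜 (isHomogeneous_bot 𝒜) hf]
  exact ⟨fun h x => h x bot_le, fun h x _ => h x⟩

theorem mem_irrelevant_of_mem {f : A} {d : ℕ} (hd : 0 < d) (hf : f ∈ 𝒜 d) :
    f ∈ (HomogeneousIdeal.irrelevant 𝒜).toIdeal := by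
  refine (HomogeneousIdeal.mem_irrelevant_iff 𝒜 f).mpr ?_
  rw [GradedRing.proj_apply, DirectSum.decompose_of_mem_ne 𝒜 hf hd.ne']

theorem basicOpen_eq_bot_iff {f : A} (hf : f ∈ (HomogeneousIdeal.irrelevant 𝒜).toIdeal) :
    Proj.basicOpen 𝒜 f = ⊥ ↔ IsNilpotent f := by
  rw [isNilpotent_iff 𝒜 hf]
  constructor
  · intro h x
    by_contra hx
    exact (h.le (show x ∈ Proj.basicOpen 𝒜 f from hx) : x ∈ (⊥ : (Proj 𝒜).Opens))
  · intro h
    exact le_bot_iff.mp fun x hx => absurd (h x) hx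

open scoped Classical in
theorem decompose_mem_irrelevant {f : A} (hf : f ∈ (HomogeneousIdeal.irrelevant 𝒜).toIdeal) (k : ℕ) :
    (DirectSum.decompose 𝒜 f k : A) ∈ (HomogeneousIdeal.irrelevant 𝒜).toIdeal :=
  (HomogeneousIdeal.irrelevant 𝒜).2 k hf

open scoped Classical in
theorem decompose_zero_of_mem_irrelevant {f : A} (hf : f ∈ (HomogeneousIdeal.irrelevant 𝒜).toIdeal) :
    (DirectSum.decompose 𝒜 f 0 : A) = 0 := by
  have h := (HomogeneousIdeal.mem_irrelevant_iff 𝒜 f).mp hf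
  rwa [GradedRing.proj_apply] at h

open scoped Classical in
/-- a relevant prime misses a homogeneous element of positive degree -/
theorem exists_pos_not_mem (x : ProjectiveSpectrum 𝒜) :
    ∃ (d : ℕ) (f : A), 0 < d ∧ f ∈ 𝒜 d ∧ f ∉ x.asHomogeneousIdeal := by
  by_contra hne
  refine x.not_irrelevant_le fun a ha => ?_
  change a ∈ x.asHomogeneousIdeal.toIdeal
  rw [← DirectSum.sum_support_decompose 𝒜 a]
  refine Ideal.sum_mem _ fun k hk => ?_
  rcases Nat.eq_zero_or_pos k with rfl | hk0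
  · rw [decompose_zero_of_mem_irrelevant 𝒜 ha]; exact Ideal.zero_mem _
  · by_contra hx
    exact hne ⟨k, _, hk0, SetLike.coe_mem _, hx⟩

theorem iSup_pos_basicOpen :
    ⨆ t : Σ d : {d : ℕ // 0 < d}, 𝒜 d.1, Proj.basicOpen 𝒜 (t.2 : A) = ⊤ := by
  refine eq_top_iff.mpr fun x _ => ?_
  obtain ⟨d, f, hd, hf, hx⟩ := exists_pos_not_mem 𝒜 x
  exact Opens.mem_iSup.mpr ⟨⟨⟨d, hd⟩, ⟨f, hf⟩⟩, hx⟩

end GrModLib6

end
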