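import Groth.Agent.GrModLib6.Twist
import Groth.Agent.ModGlueLib.Basic
import Groth.Prelude.Def_RelProj3

/-!
# The comparison map along inverting an element of degree zero is bijective on sections
-/

set_option autoImplicit false
universe u
open CategoryTheory CategoryTheory.Limits AlgebraicGeometry TopologicalSpace Opposite
open scoped HomogeneousIdeal

noncomputable section

namespace GrModLib6

variable {A σ B σ' : Type u} [CommRing A] [SetLike σ A] [AddSubgroupClass σ A] {𝒜 : ℕ → σ} [GradedRing 𝒜]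
  [CommRing B] [SetLike σ' B] [AddSubgroupClass σ' B] {ℬ : ℕ → σ'} [GradedRing ℬ]
  {M τ N τ' : Type u} [AddCommGroup M] [Module A M] [SetLike τ M] [AddSubgroupClass τ M] {ℳ : ℕ → τ}
  [SetLike.GradedSMul 𝒜 ℳ] [AddCommGroup N] [Module B N] [SetLike τ' N] [AddSubgroupClass τ' N] {𝒩 : ℕ → τ'}
  [SetLike.GradedSMul ℬ 𝒩]

variable (ψ : 𝒜 →+*ᵍ ℬ) (hψ : ℬ₊ ≤ (𝒜₊).map ψ) (v : M →ₛₗ[ψ.toRingHom] N)

open scoped Classical in
theorem decompose_semilinear [DirectSum.Decomposition ℳ] [DirectSum.Decomposition 𝒩]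
    (hv : ∀ (i : ℕ) (m : M), m ∈ ℳ i → v m ∈ 𝒩 i) (m : M) (k : ℕ) :
    v (DirectSum.decompose ℳ m k : M) = (DirectSum.decompose 𝒩 (v m) k : N) := by
  induction m using DirectSum.Decomposition.inductionOn (ℳ := ℳ) with
  | zero => simp
  | @homogeneous l a =>
    by_cases h : l = k
    · subst h
      rw [DirectSum.decompose_of_mem_same ℳ a.2, DirectSum.decompose_of_mem_same 𝒩 (hv _ _ a.2)]
    · rw [DirectSum.decompose_of_mem_ne ℳ a.2 h, DirectSum.decompose_of_mem_ne 𝒩 (hv _ _ a.2) h, map_zero]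
  | add a b ha hb =>
    rw [DirectSum.decompose_add, DirectSum.add_apply, AddMemClass.coe_add, map_add, ha, hb, map_add,
      DirectSum.decompose_add, DirectSum.add_apply, AddMemClass.coe_add]

/-- `ℬ` and `𝒩` are `𝒜` and `ℳ` with the degree-zero element `c` inverted -/
structure IsInverting (c : A) : Prop where
  mem : c ∈ 𝒜 0
  unit : IsUnit (ψ c)
  surjB : ∀ b : B, ∃ (k : ℕ) (a : A), ψ a = ψ c ^ k * b
  surjN : ∀ n : N, ∃ (k : ℕ) (m : M), v m = ψ c ^ k • n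
  kerN : ∀ m : M, v m = 0 → ∃ k : ℕ, c ^ k • m = 0

variable {ψ v} {c : A}

theorem IsInverting.locModMap_eq_zero (h : IsInverting ψ v c) {y : ProjectiveSpectrum ℬ}
    {q : GrMod.LocMod 𝒜 (M := M) (ProjectiveSpectrum.comap ψ hψ y)} (hq : GrMod.locModMap ψ hψ v y q = 0) :
    q = 0 := by
  induction q using LocalizedModule.induction_on with
  | h m s =>
    rw [GrMod.locModMap_mk, ← LocalizedModule.zero_mk 1, LocalizedModule.mk_eq] at hq
    obtain ⟨t, ht⟩ := hq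
    simp only [Submonoid.smul_def, OneMemClass.coe_one, one_smul, smul_zero] at ht
    obtain ⟨k, a, ha⟩ := h.surjB (t : B)
    obtain ⟨l, hl⟩ := h.kerN (a • m) (by
      rw [LinearMap.map_smulₛₗ]
      show ψ a • v m = 0
      rw [ha, mul_smul, ht, smul_zero])
    rw [← LocalizedModule.zero_mk 1, LocalizedModule.mk_eq]
    have hnin : ψ (c ^ l * a) ∉ y.asHomogeneousIdeal := by
      rw [map_mul, map_pow, ha, ← mul_assoc]
      intro hh
      refine (y.isPrime.mem_or_mem hh).elim (fun h' => y.isPrime.ne_top ?_) t.2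
      exact Ideal.eq_top_of_isUnit_mem _ h' ((h.unit.pow l).mul (h.unit.pow k))
    refine ⟨⟨c ^ l * a, fun hh => hnin hh⟩, ?_⟩
    simp only [Submonoid.smul_def, OneMemClass.coe_one, one_smul, smul_zero]
    rw [mul_smul, hl]

open scoped Classical in
theorem IsInverting.exists_num [DirectSum.Decomposition ℳ] [DirectSum.Decomposition 𝒩] (h : IsInverting ψ v c)
    (hv : ∀ (i : ℕ) (m : M), m ∈ ℳ i → v m ∈ 𝒩 i) {i : ℕ} {n : N} (hn : n ∈ 𝒩 i) :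
    ∃ (k : ℕ) (m : M), m ∈ ℳ i ∧ v m = ψ c ^ k • n := by
  obtain ⟨k, m, hm⟩ := h.surjN n
  refine ⟨k, DirectSum.decompose ℳ m i, SetLike.coe_mem _, ?_⟩
  rw [decompose_semilinear ψ v hv, hm]
  refine DirectSum.decompose_of_mem_same 𝒩 ?_
  have := SetLike.GradedSMul.smul_mem (A := ℬ) (B := 𝒩) (SetLike.pow_mem_graded k (ψ.map_mem h.mem)) hn
  simpa using this

open scoped Classical in
theorem IsInverting.exists_den (h : IsInverting ψ v c) {j : ℕ} {b : B} (hb : b ∈ ℬ j) :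
    ∃ (k : ℕ) (a : A), a ∈ 𝒜 j ∧ ψ a = ψ c ^ k * b := by
  obtain ⟨k, a, ha⟩ := h.surjB b
  refine ⟨k, DirectSum.decompose 𝒜 a j, SetLike.coe_mem _, ?_⟩
  rw [GradedRingHom.map_directSumDecompose, ha]
  refine DirectSum.decompose_of_mem_same ℬ ?_
  simpa using SetLike.mul_mem_graded (SetLike.pow_mem_graded k (ψ.map_mem h.mem)) hb

variable {n : ℤ} (hv : ∀ (i : ℕ) (m : M), m ∈ ℳ i → v m ∈ 𝒩 i)

theorem comap_val (W : (Proj 𝒜).Opens) (s : Γ(GrMod.tilde 𝒜 ℳ n, W))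
    (y : (Proj.map ψ hψ ⁻¹ᵁ W : (Proj ℬ).Opens)) :
    val (((GrMod.comap ψ hψ v hv n).app W) s) y =
      GrMod.locModMap ψ hψ v y.1 (val s ⟨ProjectiveSpectrum.comap ψ hψ y.1, y.2⟩) := rfl

theorem IsInverting.eq_zero_of_comap (h : IsInverting ψ v c) {V : (Proj 𝒜).Opens}
    (hV : ∀ x ∈ V, ∃ y, ProjectiveSpectrum.comap ψ hψ y = x)
    (s : Γ(GrMod.tilde 𝒜 ℳ n, V)) (hs : (GrMod.comap ψ hψ v hv n).app V s = 0) : s = 0 := by
  refine sec_ext fun x => ?_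
  obtain ⟨x, hx⟩ := x
  obtain ⟨y, rfl⟩ := hV x hx
  have hy : y ∈ Proj.map ψ hψ ⁻¹ᵁ V := hx
  have h1 : val ((GrMod.comap ψ hψ v hv n).app V s) (⟨y, hy⟩ : (Proj.map ψ hψ ⁻¹ᵁ V : (Proj ℬ).Opens)) = 0 :=
    (congrArg (fun z => val z (⟨y, hy⟩ : (Proj.map ψ hψ ⁻¹ᵁ V : (Proj ℬ).Opens))) hs).trans (val_zero _)
  rw [comap_val hψ hv V s ⟨y, hy⟩] at h1
  rw [val_zero]
  exact h.locModMap_eq_zero hψ h1

open scoped Classical in
theorem IsInverting.exists_local_lift [DirectSum.Decomposition ℳ] [DirectSum.Decomposition 𝒩]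
    (h : IsInverting ψ v c) [IsOpenImmersion (Proj.map ψ hψ)] {W : (Proj 𝒜).Opens}
    (t : Γ(GrMod.tilde ℬ 𝒩 n, Proj.map ψ hψ ⁻¹ᵁ W)) (y : Proj ℬ) (hy : y ∈ Proj.map ψ hψ ⁻¹ᵁ W) :
    ∃ (W' : (Proj 𝒜).Opens) (hle : W' ≤ W), Proj.map ψ hψ y ∈ W' ∧ ∃ s,
      (GrMod.comap ψ hψ v hv n).app W' s = ModGlueLib.rs (GrMod.tilde ℬ 𝒩 n)
        (show Proj.map ψ hψ ⁻¹ᵁ W' ≤ Proj.map ψ hψ ⁻¹ᵁ W from Scheme.Hom.preimage_mono _ hle) t := by
  obtain ⟨Wy, hyW, hWy, i, j, n₁, s₁, hn₁, hs₁, hnin, hdeg, hw⟩ := val_exists t ⟨y, hy⟩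
  have hval : ∀ (z : Proj ℬ) (hz : z ∈ Wy), val t ⟨z, hWy hz⟩ = LocalizedModule.mk n₁ ⟨s₁, hnin ⟨z, hz⟩⟩ :=
    fun z hz => hw ⟨z, hz⟩
  have hle : Proj.map ψ hψ ''ᵁ Wy ≤ W := by
    rintro _ ⟨w, hw', rfl⟩
    exact hWy hw'
  have hwy : ∀ z : (Proj.map ψ hψ ⁻¹ᵁ (Proj.map ψ hψ ''ᵁ Wy) : (Proj ℬ).Opens), z.1 ∈ Wy :=
    fun z => ((Proj.map ψ hψ).preimage_image_eq Wy).le z.2
  rcases hdeg with hdeg | hdeg
  · obtain ⟨k, m, hm, hvm⟩ := h.exists_num hv hn₁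
    obtain ⟨l, a, ha, hψa⟩ := h.exists_den hs₁
    have hm' : c ^ l • m ∈ ℳ i := by
      simpa using SetLike.GradedSMul.smul_mem (A := 𝒜) (B := ℳ) (SetLike.pow_mem_graded l h.mem) hm
    have ha' : c ^ k * a ∈ 𝒜 j := by
      simpa using SetLike.mul_mem_graded (SetLike.pow_mem_graded k h.mem) ha
    have hψa' : ψ (c ^ k * a) = ψ c ^ (k + l) * s₁ := by rw [map_mul, map_pow, hψa, pow_add, mul_assoc]
    have hnin' : ∀ z : (Proj.map ψ hψ ''ᵁ Wy : (Proj 𝒜).Opens), c ^ k * a ∉ z.1.asHomogeneousIdeal := by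
      rintro ⟨_, w, hw', rfl⟩ hh
      have h2 : ψ (c ^ k * a) ∈ w.asHomogeneousIdeal := hh
      rw [hψa'] at h2
      exact (w.isPrime.mem_or_mem h2).elim
        (fun h' => w.isPrime.ne_top (Ideal.eq_top_of_isUnit_mem _ h' (h.unit.pow _))) (hnin ⟨w, hw'⟩)
    refine ⟨_, hle, ⟨y, hyW, rfl⟩, fracSec hm' ha' hdeg hnin', sec_ext fun z => ?_⟩
    rw [comap_val hψ hv, val_fracSec hm' ha' hdeg hnin', GrMod.locModMap_mk, ModGlueLib.rs]
    refine (mk_congr ?_).trans (hval z.1 (hwy z)).symm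
    show s₁ • v (c ^ l • m) = ψ (c ^ k * a) • n₁
    rw [LinearMap.map_smulₛₗ, hψa', hvm]
    show s₁ • ψ (c ^ l) • ψ c ^ k • n₁ = _
    rw [map_pow, smul_smul, smul_smul]
    congr 1
    ring
  · refine ⟨_, hle, ⟨y, hyW, rfl⟩, 0, sec_ext fun z => ?_⟩
    refine (comap_val hψ hv _ _ z).trans ?_
    rw [val_zero, map_zero]
    exact ((hval z.1 (hwy z)).trans (by rw [hdeg, LocalizedModule.zero_mk])).symm

theorem IsInverting.comap_bijective [DirectSum.Decomposition ℳ] [DirectSum.Decomposition 𝒩]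
    (h : IsInverting ψ v c) [IsOpenImmersion (Proj.map ψ hψ)] {W : (Proj 𝒜).Opens}
    (hW : W ≤ (Proj.map ψ hψ).opensRange) :
    Function.Bijective ((GrMod.comap ψ hψ v hv n).app W) := by
  refine ⟨fun a b hab => sub_eq_zero.mp (h.eq_zero_of_comap hψ hv (fun x hx => hW hx) _ (by
    rw [map_sub, hab, sub_self])), fun t => ?_⟩
  have hloc : ∀ x : W, ∃ (W' : (Proj 𝒜).Opens) (hle : W' ≤ W), x.1 ∈ W' ∧ ∃ s,
      (GrMod.comap ψ hψ v hv n).app W' s =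
        ModGlueLib.rs ((Scheme.Modules.pushforward (Proj.map ψ hψ)).obj (GrMod.tilde ℬ 𝒩 n)) hle t := by
    rintro ⟨x, hx⟩
    obtain ⟨y, rfl⟩ := hW hx
    exact h.exists_local_lift hψ hv t y hx
  choose W' hle hxW' s hs using hloc
  obtain ⟨S, hS⟩ := ModGlueLib.exists_glue (V := W) W' hle (fun x hx => ⟨⟨x, hx⟩, hxW' ⟨x, hx⟩⟩) s
    (fun p q => sub_eq_zero.mp (h.eq_zero_of_comap hψ hv (fun x hx => hW (hle p (show x ∈ W' p ⊓ W' q from hx).1)) _ (by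
      rw [map_sub, ModGlueLib.app_rs, ModGlueLib.app_rs, hs p, hs q, ModGlueLib.rs_rs, ModGlueLib.rs_rs, sub_self])))
  refine ⟨S, ModGlueLib.eq_of_locally _ _ fun x hx => ⟨W' ⟨x, hx⟩, hle _, hxW' _, ?_⟩⟩
  rw [← ModGlueLib.app_rs, hS, hs]

/-! ## The case of the twists -/

theorem IsInverting.twist_comap_bijective {ψ : 𝒜 →+*ᵍ ℬ} (hψ : ℬ₊ ≤ (𝒜₊).map ψ)
    (h : IsInverting (M := A) (N := B) ψ ψ.toRingHom.toSemilinearMap c) [IsOpenImmersion (Proj.map ψ hψ)]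
    {W : (Proj 𝒜).Opens} (hW : W ≤ (Proj.map ψ hψ).opensRange) :
    Function.Bijective ((GrTwist.comap ψ hψ n).app W) := by
  have hb := h.comap_bijective (ℳ := 𝒜) (𝒩 := ℬ) (n := n) hψ (fun i m hm => ψ.map_mem hm) hW
  have e : ∀ (y : ProjectiveSpectrum ℬ) (q : GrMod.LocMod 𝒜 (M := A) (ProjectiveSpectrum.comap ψ hψ y)),
      GrMod.locModMap ψ hψ ψ.toRingHom.toSemilinearMap y q = GrTwist.locMap ψ hψ y q := fun y q => by
    induction q using LocalizedModule.induction_on with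
    | h m s => exact (GrTwist.locMap_mk ψ hψ y m s).symm
  have e' : ∀ s, toTilde ((GrTwist.comap ψ hψ n).app W s) =
      (GrMod.comap ψ hψ ψ.toRingHom.toSemilinearMap (fun i m hm => ψ.map_mem hm) n).app W (toTilde s) :=
    fun s => sec_ext fun y => (e _ _).symm
  refine ⟨fun a b hab => ?_, fun t => ?_⟩
  · exact congrArg ofTilde (hb.1 ((e' a).symm.trans ((congrArg toTilde hab).trans (e' b))))
  · obtain ⟨s, hs⟩ := hb.2 (toTilde t)
    exact ⟨ofTilde s, congrArg ofTilde ((e' (ofTilde s)).trans hs)⟩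

end GrModLib6

end
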