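import Groth.Prelude.Def_GrMod3
import Groth.Agent.GrModLib6.Top

/-!
# Sections of the sheaf attached to a graded module
-/

set_option autoImplicit false
universe u

open CategoryTheory CategoryTheory.Limits AlgebraicGeometry TopologicalSpace Opposite TopCat

noncomputable section

namespace GrModLib6

variable {A σ : Type u} [CommRing A] [SetLike σ A] [AddSubgroupClass σ A] (𝒜 : ℕ → σ) [GradedRing 𝒜]
  {M τ : Type u} [AddCommGroup M] [Module A M] [SetLike τ M] [AddSubgroupClass τ M] (ℳ : ℕ → τ) [SetLike.GradedSMul 𝒜 ℳ]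

section Decomposition

variable [DirectSum.Decomposition ℳ]

open scoped Classical in
/-- the components of `a` act through the components of `a • m` -/
theorem decompose_smul {i : ℕ} {m : M} (hm : m ∈ ℳ i) (a : A) (k : ℕ) :
    (DirectSum.decompose ℳ (a • m) (k + i) : M) = (DirectSum.decompose 𝒜 a k : A) • m := by
  induction a using DirectSum.Decomposition.inductionOn (ℳ := 𝒜) with
  | zero => simp
  | @homogeneous l a =>
    have ha : (a : A) • m ∈ ℳ (l + i) := SetLike.GradedSMul.smul_mem a.2 hm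
    by_cases h : l = k
    · subst h
      rw [DirectSum.decompose_of_mem_same ℳ ha, DirectSum.decompose_of_mem_same 𝒜 a.2]
    · rw [DirectSum.decompose_of_mem_ne ℳ ha (fun e => h (Nat.add_right_cancel e)),
        DirectSum.decompose_of_mem_ne 𝒜 a.2 h, zero_smul]
  | add a b ha hb =>
    rw [add_smul, DirectSum.decompose_add, DirectSum.add_apply, AddMemClass.coe_add, ha, hb,
      DirectSum.decompose_add, DirectSum.add_apply, AddMemClass.coe_add, add_smul]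

open scoped Classical in
theorem component_smul_eq_zero {i : ℕ} {m : M} (hm : m ∈ ℳ i) {a : A} (h : a • m = 0) (k : ℕ) :
    (DirectSum.decompose 𝒜 a k : A) • m = 0 := by
  rw [← decompose_smul 𝒜 ℳ hm a k, h, DirectSum.decompose_zero]
  rfl

theorem isHomogeneous_ann {i : ℕ} {m : M} (hm : m ∈ ℳ i) :
    ((LinearMap.toSpanSingleton A M m).ker).IsHomogeneous 𝒜 := by
  classical
  intro k a ha
  exact component_smul_eq_zero 𝒜 ℳ hm (show a • m = 0 from ha) k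

open scoped Classical in
/-- a homogeneous element vanishing in a localisation is killed by a homogeneous denominator -/
theorem exists_homogeneous_smul_eq_zero {x : ProjectiveSpectrum 𝒜} {i : ℕ} {m : M} (hm : m ∈ ℳ i)
    {s : x.asHomogeneousIdeal.toIdeal.primeCompl} (h : (LocalizedModule.mk m s : GrMod.LocMod 𝒜 x) = 0) :
    ∃ (k : ℕ) (v : A), v ∈ 𝒜 k ∧ v ∉ x.asHomogeneousIdeal ∧ v • m = 0 := by
  rw [← LocalizedModule.zero_mk s, LocalizedModule.mk_eq] at h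
  obtain ⟨v, hv⟩ := h
  simp only [smul_zero, Submonoid.smul_def, smul_smul] at hv
  have hmem : (v : A) * (s : A) ∈ x.asHomogeneousIdeal.toIdeal.primeCompl := mul_mem v.2 s.2
  by_contra hne
  refine hmem ?_
  change (v : A) * (s : A) ∈ x.asHomogeneousIdeal.toIdeal
  rw [← DirectSum.sum_support_decompose 𝒜 ((v : A) * (s : A))]
  refine Ideal.sum_mem _ fun k _ => ?_
  by_contra hk
  exact hne ⟨k, _, SetLike.coe_mem _, hk, component_smul_eq_zero 𝒜 ℳ hm hv k⟩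

/-- a homogeneous element vanishing on `D₊(f)` is killed by a power of `f` -/
theorem exists_pow_smul_eq_zero {d : ℕ} (hd : 0 < d) {f : A} (hf : f ∈ 𝒜 d) {i : ℕ} {m : M} (hm : m ∈ ℳ i)
    (h : ∀ x : ProjectiveSpectrum 𝒜, f ∉ x.asHomogeneousIdeal →
      ∃ s : x.asHomogeneousIdeal.toIdeal.primeCompl, (LocalizedModule.mk m s : GrMod.LocMod 𝒜 x) = 0) :
    ∃ N : ℕ, f ^ N • m = 0 := by
  have h1 : f ∈ Ideal.radical (LinearMap.toSpanSingleton A M m).ker := by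
    refine (GrModLib6.mem_radical_iff 𝒜 (isHomogeneous_ann 𝒜 ℳ hm)
      (GrModLib6.mem_irrelevant_of_mem 𝒜 hd hf)).mpr fun x hx => ?_
    by_contra hfx
    obtain ⟨s, hs⟩ := h x hfx
    obtain ⟨k, v, -, hvx, hv⟩ := exists_homogeneous_smul_eq_zero 𝒜 ℳ hm hs
    exact hvx (hx hv)
  obtain ⟨N, hN⟩ := h1
  exact ⟨N, hN⟩

end Decomposition

variable {𝒜 ℳ} {n : ℤ}

/-- The underlying function of a section. -/
def val {V : (Proj 𝒜).Opens} (t : Γ(GrMod.tilde 𝒜 ℳ n, V)) (x : V) : GrMod.LocMod 𝒜 (M := M) x.1 :=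
  ((show GrMod.sect 𝒜 ℳ n (op V) from t).1 x : GrMod.LocMod 𝒜 (M := M) x.1)

lemma sec_ext {V : (Proj 𝒜).Opens} {t t' : Γ(GrMod.tilde 𝒜 ℳ n, V)} (h : ∀ x, val t x = val t' x) :
    t = t' :=
  Subtype.ext (funext fun x => Subtype.ext (h x))

lemma val_res {V W : (Proj 𝒜).Opens} (i : V ⟶ W) (t : Γ(GrMod.tilde 𝒜 ℳ n, W)) (x : V) :
    val ((GrMod.tilde 𝒜 ℳ n).presheaf.map i.op t) x = val t ⟨x.1, i.le x.2⟩ := rfl

lemma val_zero {V : (Proj 𝒜).Opens} (x : V) : val (0 : Γ(GrMod.tilde 𝒜 ℳ n, V)) x = 0 := rfl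

lemma val_add {V : (Proj 𝒜).Opens} (t t' : Γ(GrMod.tilde 𝒜 ℳ n, V)) (x : V) :
    val (t + t') x = val t x + val t' x := rfl

lemma val_smul {V : (Proj 𝒜).Opens} (r : Γ(Proj 𝒜, V)) (t : Γ(GrMod.tilde 𝒜 ℳ n, V)) (x : V) :
    val (r • t) x = ((show GrTwist.O (op V) from r).1 x).val • val t x :=
  GrMod.coe_smul_val n x.1 _ _

/-- The section given by one fraction. -/
def fracSec {V : (Proj 𝒜).Opens} {i j : ℕ} {m : M} {s : A} (hm : m ∈ ℳ i) (hs : s ∈ 𝒜 j)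
    (h : (i : ℤ) = j + n) (hnin : ∀ x : V, s ∉ x.1.asHomogeneousIdeal) : Γ(GrMod.tilde 𝒜 ℳ n, V) :=
  (⟨fun x => ⟨LocalizedModule.mk m ⟨s, hnin x⟩,
      Submodule.subset_span ⟨i, j, ⟨m, hm⟩, ⟨s, hs⟩, hnin x, h, rfl⟩⟩,
    fun x => ⟨V, x.2, 𝟙 _, i, j, ⟨m, hm⟩, ⟨s, hs⟩, hnin, Or.inl h, fun _ => rfl⟩⟩ :
      GrMod.sect 𝒜 ℳ n (op V))

lemma val_fracSec {V : (Proj 𝒜).Opens} {i j : ℕ} {m : M} {s : A} (hm : m ∈ ℳ i) (hs : s ∈ 𝒜 j)
    (h : (i : ℤ) = j + n) (hnin : ∀ x : V, s ∉ x.1.asHomogeneousIdeal) (x : V) :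
    val (fracSec hm hs h hnin) x = LocalizedModule.mk m ⟨s, hnin x⟩ := rfl

lemma val_exists {V : (Proj 𝒜).Opens} (t : Γ(GrMod.tilde 𝒜 ℳ n, V)) (x : V) :
    ∃ (W : (Proj 𝒜).Opens) (_ : x.1 ∈ W) (hW : W ≤ V) (i j : ℕ) (m : M) (s : A) (_ : m ∈ ℳ i) (_ : s ∈ 𝒜 j)
      (hnin : ∀ y : W, s ∉ y.1.asHomogeneousIdeal), ((i : ℤ) = j + n ∨ m = 0) ∧
        ∀ y : W, val t ⟨y.1, hW y.2⟩ = LocalizedModule.mk m ⟨s, hnin y⟩ := by
  obtain ⟨W, hxW, ι, i, j, a, s, hnin, hd, hw⟩ := (show GrMod.sect 𝒜 ℳ n (op V) from t).2 x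
  exact ⟨W, hxW, ι.le, i, j, a.1, s.1, a.2, s.2, hnin, hd, fun y => hw y⟩

variable (𝒜) in
open scoped Classical in
/-- homogeneous basic opens of positive degree form a basis -/
theorem exists_homogeneous_basicOpen {W : (Proj 𝒜).Opens} {x : Proj 𝒜} (hx : x ∈ W) :
    ∃ (e : ℕ) (g : A), 0 < e ∧ g ∈ 𝒜 e ∧ x ∈ Proj.basicOpen 𝒜 g ∧ Proj.basicOpen 𝒜 g ≤ W := by
  obtain ⟨_, ⟨r, rfl⟩, hxr, hrW⟩ :=
    (ProjectiveSpectrum.isTopologicalBasis_basic_opens 𝒜).exists_subset_of_mem_open hx W.isOpen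
  obtain ⟨d, f, hd, hf, hfx⟩ := GrModLib6.exists_pos_not_mem 𝒜 x
  obtain ⟨k, hk⟩ : ∃ k, (DirectSum.decompose 𝒜 r k : A) ∉ x.asHomogeneousIdeal := by
    by_contra hne
    push Not at hne
    refine hxr ?_
    change r ∈ x.asHomogeneousIdeal.toIdeal
    rw [← DirectSum.sum_support_decompose 𝒜 r]
    exact Ideal.sum_mem _ fun k _ => hne k
  refine ⟨k + d, (DirectSum.decompose 𝒜 r k : A) * f, Nat.add_pos_right k hd,
    SetLike.mul_mem_graded (SetLike.coe_mem _) hf, fun h => (x.isPrime.mem_or_mem h).elim hk hfx,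
    fun y hy => hrW fun hry => hy ?_⟩
  exact Ideal.mul_mem_right _ _ (y.asHomogeneousIdeal.2 k hry)

lemma mk_congr {S : Submonoid A} {m m' : M} {s s' : S} (h : (s' : A) • m = (s : A) • m') :
    LocalizedModule.mk m s = LocalizedModule.mk m' s' :=
  LocalizedModule.mk_eq.mpr ⟨1, by simp only [one_smul]; exact h⟩

section Decomposition'

variable [DirectSum.Decomposition ℳ]

/-- equal fractions on `D₊(g)` -/
theorem exists_pow_smul_eq {e : ℕ} (he : 0 < e) {g : A} (hg : g ∈ 𝒜 e) {p : ℕ} {m m' : M} {s s' : A}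
    (h1 : s' • m ∈ ℳ p) (h2 : s • m' ∈ ℳ p)
    (hs : ∀ x : ProjectiveSpectrum 𝒜, g ∉ x.asHomogeneousIdeal → s ∉ x.asHomogeneousIdeal)
    (hs' : ∀ x : ProjectiveSpectrum 𝒜, g ∉ x.asHomogeneousIdeal → s' ∉ x.asHomogeneousIdeal)
    (h : ∀ (x : ProjectiveSpectrum 𝒜) (hx : g ∉ x.asHomogeneousIdeal),
      (LocalizedModule.mk m ⟨s, hs x hx⟩ : GrMod.LocMod 𝒜 x) = LocalizedModule.mk m' ⟨s', hs' x hx⟩) :
    ∃ N : ℕ, g ^ N • (s' • m) = g ^ N • (s • m') := by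
  obtain ⟨N, hN⟩ := exists_pow_smul_eq_zero 𝒜 ℳ he hg (sub_mem h1 h2) (fun x hx => ⟨1, by
    obtain ⟨v, hv⟩ := LocalizedModule.mk_eq.mp (h x hx)
    rw [← LocalizedModule.zero_mk 1, LocalizedModule.mk_eq]
    refine ⟨v, ?_⟩
    simp only [Submonoid.smul_def, OneMemClass.coe_one, one_smul] at hv ⊢
    rw [smul_sub, sub_eq_zero.mpr hv, smul_zero]⟩)
  exact ⟨N, sub_eq_zero.mp ((smul_sub _ _ _).symm.trans hN)⟩

end Decomposition'

end GrModLib6

end
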