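import Groth.Agent.GrModLib6.Rel
import Groth.Agent.GrModLib6.Twist
import Groth.Agent.QCohLib.AffineFinite
import Groth.Agent.QCohLib.Support
import Groth.Agent.ConsLib.ModLoci

/-!
# Sheaves of graded modules of finite type
-/

set_option autoImplicit false
universe u

open CategoryTheory CategoryTheory.Limits AlgebraicGeometry TopologicalSpace Opposite TopCat HomogeneousLocalization

noncomputable section

namespace GrModLib6

variable {A σ : Type u} [CommRing A] [SetLike σ A] [AddSubgroupClass σ A] {𝒜 : ℕ → σ} [GradedRing 𝒜]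
  {M τ : Type u} [AddCommGroup M] [Module A M] [SetLike τ M] [AddSubgroupClass τ M] {ℳ : ℕ → τ}
  [SetLike.GradedSMul 𝒜 ℳ] {n : ℤ}

theorem val_sum {V : (Proj 𝒜).Opens} {ι : Type*} (t : Finset ι) (g : ι → Γ(GrMod.tilde 𝒜 ℳ n, V)) (x : V) :
    val (∑ i ∈ t, g i) x = ∑ i ∈ t, val (g i) x := by
  classical
  induction t using Finset.induction_on with
  | empty => simp [val_zero]
  | insert a t ha ih => rw [Finset.sum_insert ha, Finset.sum_insert ha, val_add, ih]

theorem mk_sum {x : ProjectiveSpectrum 𝒜} {ι : Type*} (t : Finset ι) (g : ι → M)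
    (s : x.asHomogeneousIdeal.toIdeal.primeCompl) :
    (LocalizedModule.mk (∑ i ∈ t, g i) s : GrMod.LocMod 𝒜 x) = ∑ i ∈ t, LocalizedModule.mk (g i) s := by
  classical
  induction t using Finset.induction_on with
  | empty => simp [LocalizedModule.zero_mk]
  | insert a t ha ih =>
    rw [Finset.sum_insert ha, Finset.sum_insert ha, ← ih, LocalizedModule.mk_add_mk]
    refine mk_congr ?_
    simp only [Submonoid.smul_def, Submonoid.coe_mul, smul_add, smul_smul]

variable [DirectSum.Decomposition ℳ]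

variable (ℳ n) in
/-- The elements which are numerators over a chart of degree `d`, with denominators of exponent at least `k₀`. -/
def numer (d k₀ : ℕ) : Set M := {m | ∃ k i : ℕ, k₀ ≤ k ∧ (i : ℤ) = k * d + n ∧ m ∈ ℳ i}

open scoped Classical in
/-- finitely many numerators give finitely many generators over a chart -/
theorem finite_chart {d : ℕ} (hd : 0 < d) {f : A} (hf : f ∈ 𝒜 d) (k₀ : ℕ)
    (hfg : (Submodule.span A (numer ℳ n d k₀)).FG) :
    Module.Finite Γ(Proj 𝒜, Proj.basicOpen 𝒜 f) Γ(GrMod.tilde 𝒜 ℳ n, Proj.basicOpen 𝒜 f) := by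
  obtain ⟨s, hs, he⟩ := (Submodule.fg_span_iff_fg_span_finset_subset _).mp hfg
  have hs' : ∀ z ∈ s, ∃ q : ℕ × ℕ, k₀ ≤ q.1 ∧ (q.2 : ℤ) = q.1 * d + n ∧ z ∈ ℳ q.2 := fun z hz => by
    obtain ⟨k, i, h⟩ := hs hz
    exact ⟨(k, i), h⟩
  choose! q hq0 hqn hqm using hs'
  let e : M → Γ(GrMod.tilde 𝒜 ℳ n, Proj.basicOpen 𝒜 f) := fun z =>
    if h : z ∈ s then fracSec (hqm z h) (SetLike.pow_mem_graded (q z).1 hf)
      (by rw [smul_eq_mul]; push_cast; exact hqn z h) (fun y => pow_nin y _)
    else 0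
  refine Module.Finite.of_fg_top ⟨s.image e, eq_top_iff.mpr fun t _ => ?_⟩
  obtain ⟨k, i, m, hm, hi, ht⟩ := exists_eq_frac hd hf t
  let K := k + k₀
  let I := k₀ * d + i
  have hm' : f ^ k₀ • m ∈ ℳ I := SetLike.GradedSMul.smul_mem (by simpa using SetLike.pow_mem_graded k₀ hf) hm
  have hI : (I : ℤ) = K * d + n := by simp only [I, K]; push_cast; rw [hi]; ring
  have hspan : f ^ k₀ • m ∈ Submodule.span A (s : Set M) :=
    he ▸ Submodule.subset_span ⟨K, I, Nat.le_add_left _ _, hI, hm'⟩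
  obtain ⟨c, -, hc⟩ := Submodule.mem_span_finset.mp hspan
  let a : M → A := fun z => if (q z).1 ≤ K then (DirectSum.decompose 𝒜 (c z) ((K - (q z).1) • d) : A) else 0
  have hsum : f ^ k₀ • m = ∑ z ∈ s, a z • z := by
    rw [← DirectSum.decompose_of_mem_same ℳ hm']
    conv_lhs => rw [← hc, DirectSum.decompose_sum, DFinsupp.finsetSum_apply, AddSubmonoidClass.coe_finsetSum]
    refine Finset.sum_congr rfl fun z hz => ?_
    simp only [a]
    by_cases hle : (q z).1 ≤ K
    · have hIz : I = (K - (q z).1) • d + (q z).2 := by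
        have h1 := hqn z hz
        have h2 : (((K - (q z).1) • d + (q z).2 : ℕ) : ℤ) = (K : ℤ) * d + n := by
          rw [smul_eq_mul]; push_cast [hle]; rw [h1]; ring
        exact_mod_cast hI.trans h2.symm
      rw [if_pos hle, hIz, decompose_smul 𝒜 ℳ (hqm z hz)]
    · rw [if_neg hle, zero_smul]
      have hlt : I < (q z).2 := by
        have h1 := hqn z hz
        have h2 : (K : ℤ) * d < (q z).1 * d := mul_lt_mul_of_pos_right (by exact_mod_cast not_le.mp hle)
          (by exact_mod_cast hd)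
        omega
      generalize c z = b
      induction b using DirectSum.Decomposition.inductionOn (ℳ := 𝒜) with
      | zero => simp
      | @homogeneous l b =>
        have h1 : (b : A) • z ∈ ℳ (l + (q z).2) := SetLike.GradedSMul.smul_mem b.2 (hqm z hz)
        rw [DirectSum.decompose_of_mem_ne ℳ h1 (by omega)]
      | add b b' hb hb' =>
        rw [add_smul, DirectSum.decompose_add, DirectSum.add_apply, AddMemClass.coe_add, hb, hb', add_zero]
  let coef : M → Γ(Proj 𝒜, Proj.basicOpen 𝒜 f) := fun z =>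
    if (q z).1 ≤ K then
      Proj.awayToSection 𝒜 f (Away.mk 𝒜 hf (K - (q z).1)
        (DirectSum.decompose 𝒜 (c z) ((K - (q z).1) • d) : A) (SetLike.coe_mem _))
    else 0
  have key : t = ∑ z ∈ s, coef z • e z := by
    refine sec_ext fun y => ?_
    have hterm : ∀ z ∈ s, val (coef z • e z) y = LocalizedModule.mk (a z • z) ⟨f ^ K, pow_nin y K⟩ := by
      intro z hz
      by_cases hle : (q z).1 ≤ K
      · simp only [coef, a, e, dif_pos hz, if_pos hle]
        rw [val_smul, val_fracSec]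
        erw [val_awayToSection, LocalizedModule.mk_smul_mk]
        refine mk_congr ?_
        change f ^ K • _ = (f ^ (K - (q z).1) * f ^ (q z).1) • _
        rw [← pow_add, Nat.sub_add_cancel hle]
      · simp only [coef, a, if_neg hle]
        rw [zero_smul, val_zero, zero_smul, LocalizedModule.zero_mk]
    rw [val_sum, Finset.sum_congr rfl hterm, ← mk_sum, ← hsum, ht y]
    refine mk_congr ?_
    change f ^ K • m = f ^ k • f ^ k₀ • m
    rw [smul_smul, ← pow_add]
  rw [key]
  exact Submodule.sum_mem _ fun z hz => Submodule.smul_mem _ _ (Submodule.subset_span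
    (Finset.mem_coe.mpr (Finset.mem_image_of_mem _ hz)))

/-- finite type from finitely many numerators near every point -/
theorem isFT_tilde
    (h : ∀ x : Proj 𝒜, ∃ (d : ℕ) (f : A) (k₀ : ℕ), 0 < d ∧ f ∈ 𝒜 d ∧ x ∈ Proj.basicOpen 𝒜 f ∧
      (Submodule.span A (numer ℳ n d k₀)).FG) : CohB1.IsFT (GrMod.tilde 𝒜 ℳ n) := by
  haveI := isQCoh_tilde (𝒜 := 𝒜) (ℳ := ℳ) n
  refine QCohLib.isFT_of_finite fun x => ?_
  obtain ⟨d, f, k₀, hd, hf, hx, hfg⟩ := h x
  exact ⟨Proj.basicOpen 𝒜 f, Proj.isAffineOpen_basicOpen 𝒜 f hf hd, hx, finite_chart hd hf k₀ hfg⟩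

/-- degree-one charts and finite generation in high degrees -/
theorem isFT_tilde_of_genDegOne (hgen : Subring.closure ((𝒜 0 : Set A) ∪ (𝒜 1 : Set A)) = ⊤) {N : ℕ}
    (hTF : (Submodule.span A (⋃ k ∈ Set.Ici N, (ℳ k : Set M))).FG) : CohB1.IsFT (GrMod.tilde 𝒜 ℳ 0) := by
  refine isFT_tilde fun x => ?_
  obtain ⟨f, hf, hx⟩ := GrTwistLib.exists_basicOpen_of_genDegOne 𝒜 hgen x
  refine ⟨1, f, N, one_pos, hf, hx, ?_⟩
  have : numer ℳ 0 1 N = ⋃ k ∈ Set.Ici N, (ℳ k : Set M) := by
    ext m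
    simp only [numer, Set.mem_setOf_eq, Set.mem_iUnion, Set.mem_Ici, SetLike.mem_coe, Nat.cast_one, mul_one,
      add_zero, exists_prop, Int.natCast_inj]
    exact ⟨fun ⟨k, _, h1, h2, h3⟩ => ⟨k, h1, h2 ▸ h3⟩, fun ⟨k, h1, h3⟩ => ⟨k, k, h1, rfl, h3⟩⟩
  rw [this]; exact hTF

omit [SetLike.GradedSMul 𝒜 ℳ] [DirectSum.Decomposition ℳ] in
/-- `O(n)` is of finite type when the graded ring is Noetherian -/
theorem isFT_twist [IsNoetherianRing A] (n : ℤ) : CohB1.IsFT (GrTwist.twist 𝒜 n) := by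
  haveI := isQCoh_twist (𝒜 := 𝒜) n
  refine QCohLib.isFT_of_finite fun x => ?_
  obtain ⟨d, f, hd, hf, hx⟩ := exists_pos_not_mem 𝒜 x
  refine ⟨Proj.basicOpen 𝒜 f, Proj.isAffineOpen_basicOpen 𝒜 f hf hd, hx, ?_⟩
  haveI := finite_chart (ℳ := 𝒜) (n := n) hd hf 0 (IsNoetherian.noetherian _)
  exact Module.Finite.of_surjective (M := Γ(GrMod.tilde 𝒜 𝒜 n, Proj.basicOpen 𝒜 f))
    { toFun := ofTilde
      map_add' := fun t t' => GrTwistLib.sec_ext fun y => rfl
      map_smul' := fun r t => GrTwistLib.sec_ext fun y => by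
        rw [RingHom.id_apply, GrTwistLib.val_smul]
        exact val_smul r t y }
    fun t => ⟨toTilde t, GrTwistLib.sec_ext fun y => rfl⟩

/-! ## The relative sheaves -/

theorem isFT_of_restrict_cover {X : Scheme.{u}} (M : X.Modules) [Coh.IsQCoh M]
    (h : ∀ x : X, ∃ (Z : Scheme.{u}) (j : Z ⟶ X) (_ : IsOpenImmersion j), x ∈ j.opensRange ∧
      CohB1.IsFT (M.restrict j)) : CohB1.IsFT M := by
  choose Z j hj hx hM using h
  refine QCohLib.isFT_of_cover M (fun x => (j x).opensRange)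
    (eq_top_iff.mpr fun x _ => Opens.mem_iSup.mpr ⟨x, hx x⟩) fun x => ?_
  haveI := hj x
  let e : ((j x).opensRange : Scheme.{u}) ⟶ Z x :=
    IsOpenImmersion.lift (j x) (j x).opensRange.ι (by rw [Scheme.Opens.range_ι]; exact subset_rfl)
  have he : e ≫ j x = (j x).opensRange.ι := IsOpenImmersion.lift_fac _ _ _
  haveI : IsOpenImmersion e := by
    haveI : IsOpenImmersion (e ≫ j x) := by rw [he]; infer_instance
    exact IsOpenImmersion.of_comp e (j x)
  haveI : Coh.IsQCoh (M.restrict (j x)) := inferInstance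
  exact QCohLib.isFT_of_iso
    ((Scheme.Modules.restrictFunctorComp e (j x)).symm.app M ≪≫
      (Scheme.Modules.restrictFunctorCongr he).app M)
    (QCohLib.isFT_of_iso ((Scheme.Modules.restrictFunctorIsoPullback e).symm.app (M.restrict (j x)))
      (ConsLib.isFT_pullback e _ (hM x)))

variable {S P : Scheme.{u}} {𝒮 : RelProj.QCGrAlg S} {p : P ⟶ S}
  {chart : ∀ (U : S.Opens) (hU : IsAffineOpen U), (((p ⁻¹ᵁ U : P.Opens) : Scheme.{u}) ≅ Proj (𝒮.deg U hU))}

omit [DirectSum.Decomposition ℳ] [SetLike.GradedSMul 𝒜 ℳ] in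
/-- finite type may be checked on the charts -/
theorem isFT_of_chart {F : P.Modules} [Coh.IsQCoh F]
    (T : ∀ (U : S.Opens) (hU : IsAffineOpen U), (Proj (𝒮.deg U hU)).Modules)
    (hT : ∀ (U : S.Opens) (hU : IsAffineOpen U), CohB1.IsFT (T U hU))
    (lam : ∀ (U : S.Opens) (hU : IsAffineOpen U),
      F ⟶ (Scheme.Modules.pushforward (RelProj.emb p chart U hU)).obj (T U hU))
    (hbij : ∀ (U : S.Opens) (hU : IsAffineOpen U) (V : P.Opens), V ≤ p ⁻¹ᵁ U →
      Function.Bijective ((lam U hU).app V)) : CohB1.IsFT F := by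
  refine isFT_of_restrict_cover F fun x => ?_
  obtain ⟨U, hU, hx⟩ := exists_chart_open (p := p) x
  let e := RelProj.emb p chart U hU
  refine ⟨_, e, inferInstance, (MiscFlat6.emb_opensRange U hU).ge hx, ?_⟩
  let φ : F.restrict e ⟶ T U hU := ((Scheme.Modules.restrictAdjunction e).homEquiv _ _).symm (lam U hU)
  have happ : ∀ (W : (Proj (𝒮.deg U hU)).Opens) (z : Γ(F, e ''ᵁ W)),
      φ.app W z = (T U hU).presheaf.map (eqToHom (e.preimage_image_eq W).symm).op
        ((lam U hU).app (e ''ᵁ W) z) := fun W z => by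
    simp only [φ, Adjunction.homEquiv_counit]
    rfl
  haveI : IsIso φ := QCohLib.isIso_of_bijective_affine φ fun W _ => by
    have hb1 := hbij U hU (e ''ᵁ W) ((e.image_le_opensRange W).trans (MiscFlat6.emb_opensRange U hU).le)
    have hb2 : Function.Bijective ((T U hU).presheaf.map
        (eqToHom (e.preimage_image_eq W).symm).op) := ConcreteCategory.bijective_of_isIso _
    exact (funext (happ W)) ▸ hb2.comp hb1
  exact QCohLib.isFT_of_iso (asIso φ).symm (hT U hU)

omit [DirectSum.Decomposition ℳ] [SetLike.GradedSMul 𝒜 ℳ] in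
/-- quasi-coherence may be checked on the charts -/
theorem isQCoh_of_chart {F : P.Modules}
    (T : ∀ (U : S.Opens) (hU : IsAffineOpen U), (Proj (𝒮.deg U hU)).Modules)
    (hT : ∀ (U : S.Opens) (hU : IsAffineOpen U), Coh.IsQCoh (T U hU))
    (lam : ∀ (U : S.Opens) (hU : IsAffineOpen U),
      F ⟶ (Scheme.Modules.pushforward (RelProj.emb p chart U hU)).obj (T U hU))
    (hbij : ∀ (U : S.Opens) (hU : IsAffineOpen U) (V : P.Opens), V ≤ p ⁻¹ᵁ U →
      Function.Bijective ((lam U hU).app V)) : Coh.IsQCoh F := by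
  refine isQCoh_of_restrict_cover F fun x => ?_
  obtain ⟨U, hU, hx⟩ := exists_chart_open (p := p) x
  let e := RelProj.emb p chart U hU
  refine ⟨_, e, inferInstance, (MiscFlat6.emb_opensRange U hU).ge hx, ?_⟩
  let φ : F.restrict e ⟶ T U hU := ((Scheme.Modules.restrictAdjunction e).homEquiv _ _).symm (lam U hU)
  have happ : ∀ (W : (Proj (𝒮.deg U hU)).Opens) (z : Γ(F, e ''ᵁ W)),
      φ.app W z = (T U hU).presheaf.map (eqToHom (e.preimage_image_eq W).symm).op
        ((lam U hU).app (e ''ᵁ W) z) := fun W z => by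
    simp only [φ, Adjunction.homEquiv_counit]
    rfl
  haveI : IsIso φ := QCohLib.isIso_of_bijective_affine φ fun W _ => by
    have hb1 := hbij U hU (e ''ᵁ W) ((e.image_le_opensRange W).trans (MiscFlat6.emb_opensRange U hU).le)
    have hb2 : Function.Bijective ((T U hU).presheaf.map
        (eqToHom (e.preimage_image_eq W).symm).op) := ConcreteCategory.bijective_of_isIso _
    exact (funext (happ W)) ▸ hb2.comp hb1
  exact @QCohLib.isQCoh_of_iso _ _ _ (asIso φ).symm (hT U hU)

theorem isQCoh_relTwist {m : ℤ} {L : P.Modules}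
    {lam : ∀ (U : S.Opens) (hU : IsAffineOpen U),
      L ⟶ (Scheme.Modules.pushforward (RelProj.emb p chart U hU)).obj (GrTwist.twist (𝒮.deg U hU) m)}
    (hL : RelProj.IsRelTwist 𝒮 p chart m L lam) : Coh.IsQCoh L :=
  isQCoh_of_chart _ (fun _ _ => isQCoh_twist m) lam hL.bijective

end GrModLib6

end
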