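import Groth.Agent.GrModLib6.Chart

/-!
# Maps of the modules attached to graded modules: vanishing, injectivity, surjectivity, exactness
-/

set_option autoImplicit false
universe u

open CategoryTheory CategoryTheory.Limits AlgebraicGeometry TopologicalSpace Opposite TopCat

noncomputable section

namespace GrModLib6

variable {A σ : Type u} [CommRing A] [SetLike σ A] [AddSubgroupClass σ A] {𝒜 : ℕ → σ} [GradedRing 𝒜]
  {M τ : Type u} [AddCommGroup M] [Module A M] [SetLike τ M] [AddSubgroupClass τ M] {ℳ : ℕ → τ}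
  [SetLike.GradedSMul 𝒜 ℳ]
  {N τ' : Type u} [AddCommGroup N] [Module A N] [SetLike τ' N] [AddSubgroupClass τ' N] {𝒩 : ℕ → τ'}
  [SetLike.GradedSMul 𝒜 𝒩] {n : ℤ}

variable (𝒜) in
/-- a homogeneous element of large degree missing a point -/
theorem exists_large_not_mem (x : ProjectiveSpectrum 𝒜) (k : ℕ) :
    ∃ (d : ℕ) (g : A), k ≤ d ∧ g ∈ 𝒜 d ∧ g ∉ x.asHomogeneousIdeal := by
  obtain ⟨e, f, he, hf, hfx⟩ := exists_pos_not_mem 𝒜 x
  exact ⟨(k + 1) • e, f ^ (k + 1), le_trans (Nat.le_succ k) (Nat.le_mul_of_pos_right _ he),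
    SetLike.pow_mem_graded (k + 1) hf, fun h => hfx (x.isPrime.mem_of_pow_mem _ h)⟩

theorem mk_eq_zero_of_smul {x : ProjectiveSpectrum 𝒜} {m : M} {s : x.asHomogeneousIdeal.toIdeal.primeCompl}
    {v : A} (hv : v ∉ x.asHomogeneousIdeal) (h : v • m = 0) :
    (LocalizedModule.mk m s : GrMod.LocMod 𝒜 x) = 0 := by
  rw [← LocalizedModule.zero_mk 1, LocalizedModule.mk_eq]
  refine ⟨⟨v, hv⟩, ?_⟩
  simp only [Submonoid.smul_def, OneMemClass.coe_one, one_smul, smul_zero]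
  exact h

theorem val_eq_zero_of_tn {n₀ : ℕ} (h : ∀ k, n₀ ≤ k → ∀ m ∈ ℳ k, m = 0) {V : (Proj 𝒜).Opens}
    (t : Γ(GrMod.tilde 𝒜 ℳ n, V)) : t = 0 := by
  refine sec_ext fun x => ?_
  obtain ⟨W, hxW, hW, i, j, m, s, hm, hs, hnin, -, hw⟩ := val_exists t x
  rw [val_zero, hw ⟨x.1, hxW⟩]
  obtain ⟨d, g, hd, hg, hgx⟩ := exists_large_not_mem 𝒜 x.1 n₀
  exact mk_eq_zero_of_smul hgx (h (d + i) (by omega) _ (SetLike.GradedSMul.smul_mem hg hm))

theorem map_injective [DirectSum.Decomposition 𝒩] (u : M →ₗ[A] N) (hu : ∀ (i : ℕ) (m : M), m ∈ ℳ i → u m ∈ 𝒩 i)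
    {n₀ : ℕ} (h : ∀ k, n₀ ≤ k → ∀ m ∈ ℳ k, u m = 0 → m = 0) {V : (Proj 𝒜).Opens}
    (t : Γ(GrMod.tilde 𝒜 ℳ n, V)) (ht : (GrMod.map 𝒜 u hu n).app V t = 0) : t = 0 := by
  refine sec_ext fun x => ?_
  obtain ⟨W, hxW, hW, i, j, m, s, hm, hs, hnin, -, hw⟩ := val_exists t x
  rw [val_zero, hw ⟨x.1, hxW⟩]
  have h1 : GrMod.locMap u x.1 (val t x) = 0 := congrArg (fun z => val z x) ht
  rw [hw ⟨x.1, hxW⟩, GrMod.locMap_mk] at h1
  obtain ⟨k, v, hv, hvx, hvm⟩ := exists_homogeneous_smul_eq_zero 𝒜 𝒩 (hu i m hm) h1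
  obtain ⟨d, g, hd, hg, hgx⟩ := exists_large_not_mem 𝒜 x.1 n₀
  refine mk_eq_zero_of_smul (v := g * v) (fun hh => (x.1.isPrime.mem_or_mem hh).elim hgx hvx) ?_
  refine h (d + k + i) (by omega) _ (SetLike.GradedSMul.smul_mem (SetLike.mul_mem_graded hg hv) hm) ?_
  rw [map_smul, mul_smul, hvm, smul_zero]

theorem map_locally_surjective (u : M →ₗ[A] N) (hu : ∀ (i : ℕ) (m : M), m ∈ ℳ i → u m ∈ 𝒩 i)
    {n₀ : ℕ} (h : ∀ k, n₀ ≤ k → ∀ m' ∈ 𝒩 k, ∃ m ∈ ℳ k, u m = m') {V : (Proj 𝒜).Opens}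
    (t : Γ(GrMod.tilde 𝒜 𝒩 n, V)) (x : Proj 𝒜) (hx : x ∈ V) :
    ∃ (V' : (Proj 𝒜).Opens) (hle : V' ≤ V), x ∈ V' ∧ ∃ s, (GrMod.map 𝒜 u hu n).app V' s =
      (GrMod.tilde 𝒜 𝒩 n).presheaf.map (homOfLE hle).op t := by
  obtain ⟨W, hxW, hW, i, j, m, s, hm, hs, hnin, hdeg, hw⟩ := val_exists t ⟨x, hx⟩
  obtain ⟨d, g, hd, hg, hgx⟩ := exists_large_not_mem 𝒜 x n₀
  rcases hdeg with hdeg | hdeg
  · obtain ⟨m₁, hm₁, hum⟩ := h (d + i) (by omega) _ (SetLike.GradedSMul.smul_mem hg hm)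
    let V' : (Proj 𝒜).Opens := W ⊓ Proj.basicOpen 𝒜 g
    have hnin' : ∀ y : V', g * s ∉ y.1.asHomogeneousIdeal := fun y hy =>
      (y.1.isPrime.mem_or_mem hy).elim y.2.2 (hnin ⟨y.1, y.2.1⟩)
    refine ⟨V', inf_le_left.trans hW, ⟨hxW, hgx⟩, fracSec hm₁ (SetLike.mul_mem_graded hg hs) (by push_cast; omega) hnin',
      sec_ext fun y => ?_⟩
    refine ((GrMod.map_app_val u hu n V' _ y).trans (GrMod.locMap_mk u _ m₁ ⟨g * s, hnin' y⟩)).trans ?_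
    rw [val_res, hum]
    refine (mk_congr ?_).trans (hw ⟨y.1, y.2.1⟩).symm
    show s • g • m = (g * s) • m
    rw [smul_smul, mul_comm]
  · refine ⟨W, hW, hxW, 0, sec_ext fun y => ?_⟩
    rw [map_zero, val_zero, val_res, hw ⟨y.1, y.2⟩, hdeg, LocalizedModule.zero_mk]

open scoped Classical in
theorem decompose_map [DirectSum.Decomposition ℳ] [DirectSum.Decomposition 𝒩] (u : M →ₗ[A] N)
    (hu : ∀ (i : ℕ) (m : M), m ∈ ℳ i → u m ∈ 𝒩 i) (m : M) (k : ℕ) :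
    u (DirectSum.decompose ℳ m k : M) = (DirectSum.decompose 𝒩 (u m) k : N) := by
  induction m using DirectSum.Decomposition.inductionOn (ℳ := ℳ) with
  | zero => simp
  | @homogeneous l a =>
    by_cases h : l = k
    · subst h
      rw [DirectSum.decompose_of_mem_same ℳ a.2, DirectSum.decompose_of_mem_same 𝒩 (hu _ _ a.2)]
    · rw [DirectSum.decompose_of_mem_ne ℳ a.2 h, DirectSum.decompose_of_mem_ne 𝒩 (hu _ _ a.2) h, map_zero]
  | add a b ha hb =>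
    rw [DirectSum.decompose_add, DirectSum.add_apply, AddMemClass.coe_add, map_add, ha, hb, map_add,
      DirectSum.decompose_add, DirectSum.add_apply, AddMemClass.coe_add]

theorem map_exact {P τ'' : Type u} [AddCommGroup P] [Module A P] [SetLike τ'' P] [AddSubgroupClass τ'' P]
    {𝒬 : ℕ → τ''} [SetLike.GradedSMul 𝒜 𝒬] [DirectSum.Decomposition ℳ] [DirectSum.Decomposition 𝒩]
    [DirectSum.Decomposition 𝒬]
    (u : M →ₗ[A] N) (hu : ∀ (i : ℕ) (m : M), m ∈ ℳ i → u m ∈ 𝒩 i)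
    (v : N →ₗ[A] P) (hv : ∀ (i : ℕ) (m : N), m ∈ 𝒩 i → v m ∈ 𝒬 i)
    (hex : Function.Exact u v) {d : ℕ} (hd : 0 < d) {f : A} (hf : f ∈ 𝒜 d) :
    Function.Exact ((GrMod.map 𝒜 u hu n).app (Proj.basicOpen 𝒜 f))
      ((GrMod.map 𝒜 v hv n).app (Proj.basicOpen 𝒜 f)) := by
  classical
  intro t
  constructor
  · intro ht
    obtain ⟨k, i, m, hm, hi, hw⟩ := exists_eq_frac hd hf t
    obtain ⟨K, hK⟩ := exists_pow_smul_eq_zero 𝒜 𝒬 hd hf (hv i m hm) fun x hx => by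
      have h1 : GrMod.locMap v x (val t ⟨x, hx⟩) = 0 := congrArg (fun z => val z ⟨x, hx⟩) ht
      rw [hw ⟨x, hx⟩, GrMod.locMap_mk] at h1
      exact ⟨_, h1⟩
    rw [← map_smul] at hK
    obtain ⟨m₁, hm₁⟩ := (hex (f ^ K • m)).mp hK
    have hmem : f ^ K • m ∈ 𝒩 (K • d + i) := SetLike.GradedSMul.smul_mem (SetLike.pow_mem_graded K hf) hm
    let m₂ : ℳ (K • d + i) := DirectSum.decompose ℳ m₁ (K • d + i)
    have hm₂ : u (m₂ : M) = f ^ K • m := by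
      rw [decompose_map u hu, hm₁, DirectSum.decompose_of_mem_same 𝒩 hmem]
    refine ⟨fracSec m₂.2 (SetLike.pow_mem_graded (K + k) hf) ?_ (fun y => pow_nin y _), sec_ext fun y => ?_⟩
    · simp only [smul_eq_mul]; push_cast; rw [hi]; ring
    · refine ((GrMod.map_app_val u hu n _ _ y).trans (GrMod.locMap_mk u _ _ ⟨f ^ (K + k), pow_nin y _⟩)).trans ?_
      rw [hm₂, hw y]
      refine mk_congr ?_
      show f ^ k • f ^ K • m = f ^ (K + k) • m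
      rw [smul_smul, ← pow_add, add_comm]
  · rintro ⟨s, rfl⟩
    refine sec_ext fun y => ?_
    rw [val_zero]
    obtain ⟨W, hxW, hW, i, j, m, a, hm, ha, hnin, -, hw⟩ := val_exists s y
    have h1 : val ((GrMod.map 𝒜 v hv n).app _ ((GrMod.map 𝒜 u hu n).app _ s)) y =
        GrMod.locMap v y.1 (GrMod.locMap u y.1 (val s y)) := rfl
    rw [h1, hw ⟨y.1, hxW⟩, GrMod.locMap_mk, GrMod.locMap_mk, (hex (u m)).mpr ⟨m, rfl⟩, LocalizedModule.zero_mk]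

end GrModLib6
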