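import Groth.Agent.GrModLib6.RelExist

/-!
# The comparison of twists along a morphism of relative Proj's
-/

set_option autoImplicit false
universe u
open CategoryTheory CategoryTheory.Limits AlgebraicGeometry TopologicalSpace Opposite
open scoped HomogeneousIdeal

noncomputable section

namespace GrModLib6

variable {S PA PB : Scheme.{u}} {𝒜 ℬ : RelProj.QCGrAlg S} {φ : 𝒜.toQCAlg ⟶ ℬ.toQCAlg}
  {hφ : RelProj.IsGradedHom φ}
  {hirr : ∀ (U : S.Opens) (hU : IsAffineOpen U),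
    (ℬ.deg U hU)₊ ≤ ((𝒜.deg U hU)₊).map (RelProj.gradedHomAt φ hφ U hU)}
  {pA : PA ⟶ S} {pB : PB ⟶ S}
  {chartA : ∀ (U : S.Opens) (hU : IsAffineOpen U), (((pA ⁻¹ᵁ U : PA.Opens) : Scheme.{u}) ≅ Proj (𝒜.deg U hU))}
  {chartB : ∀ (U : S.Opens) (hU : IsAffineOpen U), (((pB ⁻¹ᵁ U : PB.Opens) : Scheme.{u}) ≅ Proj (ℬ.deg U hU))}
  {h : PB ⟶ PA} {n : ℤ}

theorem emb_comp_map (hh : RelProj.IsRelProjMap φ hφ hirr chartA chartB h) (i : Aff S) :
    RelProj.emb pB chartB i.1 i.2 ≫ h =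
      Proj.map (RelProj.gradedHomAt φ hφ i.1 i.2) (hirr i.1 i.2) ≫ RelProj.emb pA chartA i.1 i.2 := by
  rw [RelProj.emb, RelProj.emb, Category.assoc, hh i.1 i.2, Iso.inv_hom_id_assoc]

theorem preimage_map (hh : RelProj.IsRelProjMap φ hφ hirr chartA chartB h) (i : Aff S) (W : PA.Opens) :
    RelProj.emb pB chartB i.1 i.2 ⁻¹ᵁ (h ⁻¹ᵁ W) =
      Proj.map (RelProj.gradedHomAt φ hφ i.1 i.2) (hirr i.1 i.2) ⁻¹ᵁ (RelProj.emb pA chartA i.1 i.2 ⁻¹ᵁ W) := by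
  rw [← Scheme.Hom.comp_preimage, emb_comp_map hh, Scheme.Hom.comp_preimage]

variable {LA : PA.Modules}
  {lamA : ∀ (U : S.Opens) (hU : IsAffineOpen U),
    LA ⟶ (Scheme.Modules.pushforward (RelProj.emb pA chartA U hU)).obj (GrTwist.twist (𝒜.deg U hU) n)}

variable (lamA) in
/-- the comparison into one chart -/
def chartComap (hh : RelProj.IsRelProjMap φ hφ hirr chartA chartB h) (i : Aff S) :
    LA ⟶ (Scheme.Modules.pushforward h).obj
      ((Scheme.Modules.pushforward (RelProj.emb pB chartB i.1 i.2)).obj (GrTwist.twist (ℬ.deg i.1 i.2) n)) :=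
  lamA i.1 i.2 ≫ (Scheme.Modules.pushforward (RelProj.emb pA chartA i.1 i.2)).map
      (GrTwist.comap (RelProj.gradedHomAt φ hφ i.1 i.2) (hirr i.1 i.2) n) ≫
    (Scheme.Modules.pushforwardComp (Proj.map (RelProj.gradedHomAt φ hφ i.1 i.2) (hirr i.1 i.2))
      (RelProj.emb pA chartA i.1 i.2)).hom.app _ ≫
    (Scheme.Modules.pushforwardCongr (emb_comp_map hh i).symm).hom.app _ ≫
    (Scheme.Modules.pushforwardComp (RelProj.emb pB chartB i.1 i.2) h).inv.app _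

theorem chartComap_val (hh : RelProj.IsRelProjMap φ hφ hirr chartA chartB h) (i : Aff S) (W : PA.Opens)
    (s : Γ(LA, W)) (y : (RelProj.emb pB chartB i.1 i.2 ⁻¹ᵁ (h ⁻¹ᵁ W) : (Proj (ℬ.deg i.1 i.2)).Opens))
    (hy : ProjectiveSpectrum.comap (RelProj.gradedHomAt φ hφ i.1 i.2) (hirr i.1 i.2) y.1 ∈
      RelProj.emb pA chartA i.1 i.2 ⁻¹ᵁ W) :
    GrTwistLib.val (𝒜 := ℬ.deg i.1 i.2) (n := n) (V := RelProj.emb pB chartB i.1 i.2 ⁻¹ᵁ (h ⁻¹ᵁ W))
        ((chartComap lamA hh i).app W s) y =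
      GrTwist.locMap (RelProj.gradedHomAt φ hφ i.1 i.2) (hirr i.1 i.2) y.1
        (GrTwistLib.val (𝒜 := 𝒜.deg i.1 i.2) (n := n) (V := RelProj.emb pA chartA i.1 i.2 ⁻¹ᵁ W)
          ((lamA i.1 i.2).app W s) ⟨_, hy⟩) := rfl

theorem comap_square_eq {i j : Aff S} (hb : IsBasic i j) (y : ProjectiveSpectrum (ℬ.deg j.1 j.2)) :
    ProjectiveSpectrum.comap (RelProj.gradedHomAt φ hφ i.1 i.2) (hirr i.1 i.2)
        (ProjectiveSpectrum.comap (ℬ.res i.2 j.2 hb.le) (hb.irr ℬ) y) =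
      ProjectiveSpectrum.comap (𝒜.res i.2 j.2 hb.le) (hb.irr 𝒜)
        (ProjectiveSpectrum.comap (RelProj.gradedHomAt φ hφ j.1 j.2) (hirr j.1 j.2) y) := by
  refine ProjectiveSpectrum.ext (HomogeneousIdeal.ext (Ideal.ext fun a => ?_))
  show (ℬ.presheaf.map (homOfLE hb.le).op).hom ((φ.hom.app (op i.1)).hom a) ∈ y.asHomogeneousIdeal ↔
    (φ.hom.app (op j.1)).hom ((𝒜.presheaf.map (homOfLE hb.le).op).hom a) ∈ y.asHomogeneousIdeal
  rw [← CommRingCat.comp_apply, ← φ.hom.naturality, CommRingCat.comp_apply]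

theorem locMap_square {i j : Aff S} (hb : IsBasic i j) {V : (Proj (𝒜.deg i.1 i.2)).Opens}
    (s : Γ(GrTwist.twist (𝒜.deg i.1 i.2) n, V)) (y : ProjectiveSpectrum (ℬ.deg j.1 j.2))
    (h1 : ProjectiveSpectrum.comap (RelProj.gradedHomAt φ hφ i.1 i.2) (hirr i.1 i.2)
      (ProjectiveSpectrum.comap (ℬ.res i.2 j.2 hb.le) (hb.irr ℬ) y) ∈ V)
    (h2 : ProjectiveSpectrum.comap (𝒜.res i.2 j.2 hb.le) (hb.irr 𝒜)
      (ProjectiveSpectrum.comap (RelProj.gradedHomAt φ hφ j.1 j.2) (hirr j.1 j.2) y) ∈ V) :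
    GrTwist.locMap (ℬ.res i.2 j.2 hb.le) (hb.irr ℬ) y
        (GrTwist.locMap (RelProj.gradedHomAt φ hφ i.1 i.2) (hirr i.1 i.2) _ (GrTwistLib.val s ⟨_, h1⟩)) =
      GrTwist.locMap (RelProj.gradedHomAt φ hφ j.1 j.2) (hirr j.1 j.2) y
        (GrTwist.locMap (𝒜.res i.2 j.2 hb.le) (hb.irr 𝒜) _ (GrTwistLib.val s ⟨_, h2⟩)) := by
  obtain ⟨W', hxW', ι, a, b, m, q, hnin, -, hw⟩ :=
    (show GrTwist.sectN (𝒜 := 𝒜.deg i.1 i.2) n (op V) from s).2 ⟨_, h2⟩
  have hx1 : ProjectiveSpectrum.comap (RelProj.gradedHomAt φ hφ i.1 i.2) (hirr i.1 i.2)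
      (ProjectiveSpectrum.comap (ℬ.res i.2 j.2 hb.le) (hb.irr ℬ) y) ∈ W' := by
    rw [comap_square_eq hb y]; exact hxW'
  have e1 : GrTwistLib.val s ⟨_, h1⟩ = _ := hw ⟨_, hx1⟩
  have e2 : GrTwistLib.val s ⟨_, h2⟩ = _ := hw ⟨_, hxW'⟩
  rw [e1, e2, GrTwist.locMap_mk, GrTwist.locMap_mk, GrTwist.locMap_mk, GrTwist.locMap_mk]
  have hn : ∀ a, (φ.hom.app (op j.1)).hom ((𝒜.presheaf.map (homOfLE hb.le).op).hom a) =
      (ℬ.presheaf.map (homOfLE hb.le).op).hom ((φ.hom.app (op i.1)).hom a) := fun a => by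
    rw [← CommRingCat.comp_apply, φ.hom.naturality, CommRingCat.comp_apply]
  exact congrArg₂ Localization.mk (hn _).symm (Subtype.ext (hn _).symm)

theorem existsUnique_twistComap (hA : RelProj.IsRelProj 𝒜 pA chartA) (hB : RelProj.IsRelProj ℬ pB chartB)
    (hh : RelProj.IsRelProjMap φ hφ hirr chartA chartB h)
    (hLA : RelProj.IsRelTwist 𝒜 pA chartA n LA lamA) {LB : PB.Modules}
    {lamB : ∀ (U : S.Opens) (hU : IsAffineOpen U),
      LB ⟶ (Scheme.Modules.pushforward (RelProj.emb pB chartB U hU)).obj (GrTwist.twist (ℬ.deg U hU) n)}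
    (hLB : RelProj.IsRelTwist ℬ pB chartB n LB lamB) :
    ∃! θ : LA ⟶ (Scheme.Modules.pushforward h).obj LB,
      ∀ i : Aff S, θ ≫ (Scheme.Modules.pushforward h).map (lamB i.1 i.2) = chartComap lamA hh i := by
  let adj := Scheme.Modules.pullbackPushforwardAdjunction h
  let D := twistDatum hB n
  have hcomp : ∀ (i j : Aff S) (hb : IsBasic i j),
      chartComap lamA hh i ≫ (Scheme.Modules.pushforward h).map (δW hB n hb) = chartComap lamA hh j := by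
    intro i j hb
    refine Scheme.Modules.hom_ext _ _ fun W => ConcreteCategory.hom_ext _ _ fun s => ?_
    refine GrTwistLib.sec_ext fun y => ?_
    have hy1 := (preimage_pmap hB hb (h ⁻¹ᵁ W)).le y.2
    have hy2 := (preimage_map hh i W).le hy1
    have hy3 := (preimage_map hh j W).le y.2
    have hy4 := (preimage_pmap hA hb W).le hy3
    refine (δW_val hB n hb (h ⁻¹ᵁ W) _ y hy1).trans ?_
    refine ((congrArg (GrTwist.locMap _ _ y.1) (chartComap_val hh i W s ⟨_, hy1⟩ hy2)).trans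
      (locMap_square hb _ y.1 hy2 hy4)).trans ?_
    refine Eq.trans ?_ (chartComap_val hh j W s y hy3).symm
    refine congrArg _ ?_
    have e : (δW hA n hb).app W ((lamA i.1 i.2).app W s) = (lamA j.1 j.2).app W s :=
      congrArg (fun φ => φ.app W s) (compat_of_isRelTwist hA hLA i j hb)
    let z₀ : (RelProj.emb pA chartA j.1 j.2 ⁻¹ᵁ W : (Proj (𝒜.deg j.1 j.2)).Opens) :=
      ⟨ProjectiveSpectrum.comap (RelProj.gradedHomAt φ hφ j.1 j.2) (hirr j.1 j.2) y.1, hy3⟩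
    have e' : GrTwistLib.val (𝒜 := 𝒜.deg j.1 j.2) (n := n) (V := RelProj.emb pA chartA j.1 j.2 ⁻¹ᵁ W)
        ((δW hA n hb).app W ((lamA i.1 i.2).app W s)) z₀ =
        GrTwistLib.val (𝒜 := 𝒜.deg j.1 j.2) (n := n) (V := RelProj.emb pA chartA j.1 j.2 ⁻¹ᵁ W)
        ((lamA j.1 j.2).app W s) z₀ := by rw [e]
    exact ((δW_val hA n hb W _ z₀ hy4).symm.trans e')
  let ψ : ∀ i : Aff S, (Scheme.Modules.pullback h).obj LA ⟶ D.T i :=
    fun i => (adj.homEquiv _ _).symm (chartComap lamA hh i)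
  obtain ⟨θ', hθ', huniq⟩ := ModGlueLib.existsUnique_lift (D := D) (fun i => lamB i.1 i.2)
    (fun i W hW => hLB.bijective i.1 i.2 W hW) (compat_of_isRelTwist hB hLB) ψ (fun i j hb => by
      refine ((adj.homEquiv_naturality_right_symm (chartComap lamA hh i) (δW hB n hb)).symm).trans ?_
      exact congrArg (adj.homEquiv _ _).symm (hcomp i j hb))
  refine ⟨(adj.homEquiv _ _) θ', fun i => ?_, fun θ hθ => ?_⟩
  · refine ((adj.homEquiv_naturality_right θ' (lamB i.1 i.2)).symm).trans ?_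
    exact (congrArg (adj.homEquiv _ _) (hθ' i)).trans (Equiv.apply_symm_apply _ _)
  · refine ((adj.homEquiv _ _).eq_symm_apply).mp ?_ |>.symm ▸ rfl
    refine (huniq _ fun i => ?_).symm
    exact ((adj.homEquiv_naturality_right_symm θ (lamB i.1 i.2)).symm).trans (congrArg (adj.homEquiv _ _).symm (hθ i))

end GrModLib6

end
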