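import Groth.Agent.GrModLib6.RelExist
import Groth.Agent.GrTwistLib.Ample

/-!
# Sections and generators of twists on a relative Proj, from the charts
-/

set_option autoImplicit false
universe u
open CategoryTheory CategoryTheory.Limits AlgebraicGeometry TopologicalSpace Opposite
open scoped HomogeneousIdeal
open AmpleLib (GenOn)

noncomputable section

namespace GrModLib6

open ModGlueLib (rs rs_rs app_rs eq_of_locally exists_glue)

theorem genOn_of_locally {X : Scheme.{u}} {M : X.Modules} {Z : X.Opens} (σ : Γ(M, Z))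
    (h : ∀ x ∈ Z, ∃ (V : X.Opens) (hle : V ≤ Z), x ∈ V ∧ GenOn M (rs M hle σ)) : GenOn M σ := by
  choose V hle hxV hV using fun x : Z => h x.1 x.2
  intro W hW
  have hb : ∀ x : Z, Function.Bijective fun r : Γ(X, W ⊓ V x) => r • rs M (inf_le_left.trans hW) σ := fun x => by
    refine (congrArg Function.Bijective (funext fun r => congrArg (r • ·) ?_)).mpr (hV x (W ⊓ V x) inf_le_right)
    exact (rs_rs M inf_le_right (hle x) σ).symm
  refine ⟨fun a b hab => ?_, fun t => ?_⟩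
  · refine eq_of_locally (M := Coh.structureModule X) a b fun x hx => ⟨W ⊓ V ⟨x, hW hx⟩, inf_le_left, ⟨hx, hxV _⟩, ?_⟩
    refine (hb ⟨x, hW hx⟩).1 ?_
    have := congrArg (rs M (inf_le_left : W ⊓ V ⟨x, hW hx⟩ ≤ W)) hab
    simp only [ModGlueLib.rs, AmpleLib.res_smul, AmpleLib.res_res] at this ⊢
    exact this
  · choose r hr using fun x : W => (hb ⟨x.1, hW x.2⟩).2 (rs M inf_le_left t)
    obtain ⟨g, hg⟩ := exists_glue (M := Coh.structureModule X) (fun x : W => W ⊓ V ⟨x.1, hW x.2⟩)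
      (fun x => inf_le_left) (fun x hx => ⟨⟨x, hx⟩, hx, hxV _⟩) r (fun p q => by
        refine eq_of_locally _ _ fun x hx => ⟨(W ⊓ V ⟨p.1, hW p.2⟩) ⊓ (W ⊓ V ⟨q.1, hW q.2⟩), le_rfl, hx, ?_⟩
        refine ((hV ⟨p.1, hW p.2⟩) _ (inf_le_left.trans inf_le_right)).1 ?_
        have e1 := congrArg (rs M (inf_le_left : (W ⊓ V ⟨p.1, hW p.2⟩) ⊓ (W ⊓ V ⟨q.1, hW q.2⟩) ≤ _)) (hr p)
        have e2 := congrArg (rs M (inf_le_right : (W ⊓ V ⟨p.1, hW p.2⟩) ⊓ (W ⊓ V ⟨q.1, hW q.2⟩) ≤ _)) (hr q)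
        simp only [ModGlueLib.rs, AmpleLib.res_smul, AmpleLib.res_res] at e1 e2 ⊢
        exact e1.trans e2.symm)
    refine ⟨g, eq_of_locally _ _ fun x hx => ⟨W ⊓ V ⟨x, hW hx⟩, inf_le_left, ⟨hx, hxV _⟩, ?_⟩⟩
    have e := hr ⟨x, hx⟩
    simp only [ModGlueLib.rs, AmpleLib.res_smul, AmpleLib.res_res] at e ⊢
    refine Eq.trans ?_ e
    exact congrArg (· • _) (hg ⟨x, hx⟩)

variable {S P : Scheme.{u}} {𝒮 : RelProj.QCGrAlg S} {p : P ⟶ S}
  {chart : ∀ (U : S.Opens) (hU : IsAffineOpen U), (((p ⁻¹ᵁ U : P.Opens) : Scheme.{u}) ≅ Proj (𝒮.deg U hU))}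
  {n : ℤ} {L : P.Modules}
  {lam : ∀ (U : S.Opens) (hU : IsAffineOpen U),
    L ⟶ (Scheme.Modules.pushforward (RelProj.emb p chart U hU)).obj (GrTwist.twist (𝒮.deg U hU) n)}

/-- compatible chart sections glue -/
theorem exists_section_of_charts (hP : RelProj.IsRelProj 𝒮 p chart)
    (hL : RelProj.IsRelTwist 𝒮 p chart n L lam) (Z : P.Opens)
    (t : ∀ i : Aff S, Γ(GrTwist.twist (𝒮.deg i.1 i.2) n, RelProj.emb p chart i.1 i.2 ⁻¹ᵁ Z))
    (ht : ∀ (i j : Aff S) (h : IsBasic i j), (δW hP n h).app Z (t i) = t j) :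
    ∃ σ : Γ(L, Z), ∀ i : Aff S, (lam i.1 i.2).app Z σ = t i := by
  let D := twistDatum hP n
  obtain ⟨e, he⟩ := ModGlueLib.exists_lift (D := D) (fun i => lam i.1 i.2) (compat_of_isRelTwist hP hL)
  haveI : IsIso e := ModGlueLib.isIso_of_compat (D := D) (fun i => ModGlueLib.π D i)
    (fun i _ hW => ModGlueLib.π_bijective D i hW) (fun i => lam i.1 i.2)
    (fun i W hW => hL.bijective i.1 i.2 W hW) e he
  obtain ⟨a, ha⟩ := (DiscExtLib.pi_sections D.T Z).2 t
  have hmem : (ModGlueLib.sub D).mem Z a := by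
    intro i j h
    rw [show (Pi.π D.T i).app Z a = t i from congrFun ha i, show (Pi.π D.T j).app Z a = t j from congrFun ha j]
    exact ht i j h
  let b : Γ(ModGlueLib.glue D, Z) := (ModGlueLib.sub D).lift a hmem
  refine ⟨(inv e).app Z b, fun i => ?_⟩
  have h1 : inv e ≫ lam i.1 i.2 = ModGlueLib.π D i :=
    (IsIso.inv_comp_eq e).mpr (he i).symm
  exact (congrArg (fun θ => θ.app Z b) h1).trans (congrFun ha i)

theorem genOn_of_charts (hL : RelProj.IsRelTwist 𝒮 p chart n L lam) {Z : P.Opens} (σ : Γ(L, Z))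
    (h : ∀ i : Aff S, GenOn (GrTwist.twist (𝒮.deg i.1 i.2) n) ((lam i.1 i.2).app Z σ)) : GenOn L σ := by
  refine genOn_of_locally σ fun x hx => ?_
  obtain ⟨U, hU, hxU⟩ := exists_chart_open (p := p) x
  refine ⟨Z ⊓ p ⁻¹ᵁ U, inf_le_left, ⟨hx, hxU⟩, fun W hW => ?_⟩
  let e := RelProj.emb p chart U hU
  have hWU : W ≤ p ⁻¹ᵁ U := hW.trans inf_le_right
  haveI : IsIso (e.app W) := e.isIso_app W (hWU.trans (MiscFlat6.emb_opensRange (chart := chart) U hU).ge)
  have hb1 : Function.Bijective (e.app W) := ConcreteCategory.bijective_of_isIso (e.app W)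
  have hb2 := h ⟨U, hU⟩ (e ⁻¹ᵁ W) (e.preimage_mono (hW.trans inf_le_left))
  have hb3 := hL.bijective U hU W hWU
  refine (hb3.of_comp_iff' _).mp ?_
  refine (congrArg Function.Bijective (funext fun r => ?_)).mpr (hb2.comp hb1)
  show (lam U hU).app W (r • AmpleLib.res L hW (rs L inf_le_left σ)) = _
  rw [ModGlueLib.rs, AmpleLib.res_res, QCohLib.app_smul]
  exact congrArg (fun z => r • z) (QCohLib.app_map (lam U hU) (homOfLE (hW.trans inf_le_left)) σ)

end GrModLib6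

end
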