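import Groth.Agent.GrModLib6.RelGlue

/-!
# A twist by a multiple of the degree of a global homogeneous section is trivial on its basic open
-/

set_option autoImplicit false
universe u
open CategoryTheory CategoryTheory.Limits AlgebraicGeometry TopologicalSpace Opposite
open scoped HomogeneousIdeal
open GrTwistLib (Unit' powUnit)

noncomputable section

namespace GrModLib6

theorem powUnit_map {A σ B σ' : Type u} [CommRing A] [SetLike σ A] [AddSubgroupClass σ A] {𝒜 : ℕ → σ}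
    [GradedRing 𝒜] [CommRing B] [SetLike σ' B] [AddSubgroupClass σ' B] {ℬ : ℕ → σ'} [GradedRing ℬ]
    (ψ : 𝒜 →+*ᵍ ℬ) {d : ℕ} {f : A} (hf : f ∈ 𝒜 d) {g : B} (hg : g ∈ ℬ d) (e : ψ f = g) (m : ℤ) :
    ψ (powUnit 𝒜 hf m).num = (powUnit ℬ hg m).num ∧ ψ (powUnit 𝒜 hf m).den = (powUnit ℬ hg m).den := by
  cases m with
  | ofNat k =>
    exact ⟨by show ψ (f ^ k) = g ^ k; rw [map_pow, e], by show ψ ((1 : A) ^ k) = (1 : B) ^ k; rw [map_pow, map_one]⟩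
  | negSucc k =>
    exact ⟨by show ψ ((1 : A) ^ (k + 1)) = (1 : B) ^ (k + 1); rw [map_pow, map_one],
      by show ψ (f ^ (k + 1)) = g ^ (k + 1); rw [map_pow, e]⟩

variable {S P : Scheme.{u}} {𝒮 : RelProj.QCGrAlg S} {p : P ⟶ S}
  {chart : ∀ (U : S.Opens) (hU : IsAffineOpen U), (((p ⁻¹ᵁ U : P.Opens) : Scheme.{u}) ≅ Proj (𝒮.deg U hU))}
  {L : P.Modules}

theorem preimage_le_basicOpen {Xf : P.Opens} (f : 𝒮.presheaf.obj (op ⊤))
    (hXf : ∀ (U : S.Opens) (hU : IsAffineOpen U),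
      Xf ⊓ p ⁻¹ᵁ U =
        (p ⁻¹ᵁ U).ι ''ᵁ ((chart U hU).hom ⁻¹ᵁ
          Proj.basicOpen (𝒮.deg U hU) ((𝒮.presheaf.map (homOfLE le_top).op).hom f)))
    (i : Aff S) :
    RelProj.emb p chart i.1 i.2 ⁻¹ᵁ Xf ≤
      Proj.basicOpen (𝒮.deg i.1 i.2) ((𝒮.presheaf.map (homOfLE le_top).op).hom f) := by
  intro y hy
  have hy' : RelProj.emb p chart i.1 i.2 y ∈ Xf ⊓ p ⁻¹ᵁ i.1 :=
    ⟨hy, (MiscFlat6.emb_opensRange (chart := chart) i.1 i.2).le ⟨y, rfl⟩⟩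
  rw [hXf i.1 i.2] at hy'
  obtain ⟨z, hz, hzy⟩ := hy'
  have hz' : z = (chart i.1 i.2).inv y :=
    (p ⁻¹ᵁ i.1).ι.isOpenEmbedding.injective (hzy.trans (Scheme.Hom.comp_apply _ _ _))
  have hyy : (chart i.1 i.2).hom z = y := by rw [hz', ← Scheme.Hom.comp_apply, Iso.inv_hom_id]; rfl
  exact hyy ▸ hz

theorem unit_compat (hP : RelProj.IsRelProj 𝒮 p chart) {i j : Aff S} (h : IsBasic i j) {d : ℕ}
    (f : 𝒮.presheaf.obj (op ⊤))
    (hfi : (𝒮.presheaf.map (homOfLE (le_top : i.1 ≤ ⊤)).op).hom f ∈ 𝒮.deg i.1 i.2 d)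
    (hfj : (𝒮.presheaf.map (homOfLE (le_top : j.1 ≤ ⊤)).op).hom f ∈ 𝒮.deg j.1 j.2 d) (n : ℤ) (Xf : P.Opens)
    (hi : RelProj.emb p chart i.1 i.2 ⁻¹ᵁ Xf ≤
      Proj.basicOpen (𝒮.deg i.1 i.2) ((𝒮.presheaf.map (homOfLE (le_top : i.1 ≤ ⊤)).op).hom f))
    (hj : RelProj.emb p chart j.1 j.2 ⁻¹ᵁ Xf ≤
      Proj.basicOpen (𝒮.deg j.1 j.2) ((𝒮.presheaf.map (homOfLE (le_top : j.1 ≤ ⊤)).op).hom f)) :
    (δW hP (n * (d : ℤ)) h).app Xf (AmpleLib.res (GrTwist.twist (𝒮.deg i.1 i.2) (n * (d : ℤ))) hi (powUnit _ hfi n).sec) =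
      AmpleLib.res (GrTwist.twist (𝒮.deg j.1 j.2) (n * (d : ℤ))) hj (powUnit _ hfj n).sec := by
  refine GrTwistLib.sec_ext fun y => ?_
  have hy := (preimage_pmap hP h Xf).le y.2
  rw [δW_val hP _ h Xf _ y hy, GrTwistLib.val_res, GrTwistLib.val_res]
  rw [Unit'.sec, Unit'.sec, GrTwistLib.val_fracSec, GrTwistLib.val_fracSec, GrTwist.locMap_mk]
  obtain ⟨e1, e2⟩ := powUnit_map (𝒮.res i.2 j.2 h.le) hfi hfj (by
    show (𝒮.presheaf.map _).hom ((𝒮.presheaf.map _).hom f) = _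
    rw [← RingHom.comp_apply, ← CommRingCat.hom_comp, ← Functor.map_comp]; rfl) n
  exact congrArg₂ Localization.mk e1 (Subtype.ext e2)

theorem relTwist_trivial_basicOpen (hP : RelProj.IsRelProj 𝒮 p chart) {d : ℕ} (f : 𝒮.presheaf.obj (op ⊤))
    (hf : ∀ (U : S.Opens) (hU : IsAffineOpen U), (𝒮.presheaf.map (homOfLE le_top).op).hom f ∈ 𝒮.deg U hU d)
    (Xf : P.Opens)
    (hXf : ∀ (U : S.Opens) (hU : IsAffineOpen U),
      Xf ⊓ p ⁻¹ᵁ U =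
        (p ⁻¹ᵁ U).ι ''ᵁ ((chart U hU).hom ⁻¹ᵁ
          Proj.basicOpen (𝒮.deg U hU) ((𝒮.presheaf.map (homOfLE le_top).op).hom f)))
    (n : ℤ) {lam : ∀ (U : S.Opens) (hU : IsAffineOpen U),
      L ⟶ (Scheme.Modules.pushforward (RelProj.emb p chart U hU)).obj (GrTwist.twist (𝒮.deg U hU) (n * (d : ℤ)))}
    (hL : RelProj.IsRelTwist 𝒮 p chart (n * (d : ℤ)) L lam) :
    Nonempty (L.restrict Xf.ι ≅ Coh.structureModule (Xf : Scheme.{u})) := by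
  let g : ∀ i : Aff S, Unit' (𝒮.deg i.1 i.2) (n * d) (Proj.basicOpen (𝒮.deg i.1 i.2)
      ((𝒮.presheaf.map (homOfLE (le_top : i.1 ≤ ⊤)).op).hom f)) := fun i => powUnit _ (hf i.1 i.2) n
  let t : ∀ i : Aff S, Γ(GrTwist.twist (𝒮.deg i.1 i.2) (n * (d : ℤ)), RelProj.emb p chart i.1 i.2 ⁻¹ᵁ Xf) :=
    fun i => AmpleLib.res _ (preimage_le_basicOpen f hXf i) (g i).sec
  obtain ⟨σ, hσ⟩ := exists_section_of_charts hP hL Xf t (fun i j h =>
    unit_compat hP h f (hf i.1 i.2) (hf j.1 j.2) n Xf _ _)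
  refine GrTwistLib.nonempty_iso_of_genOn σ (genOn_of_charts hL σ fun i => ?_)
  rw [hσ i]
  exact (g i).genOn.res (preimage_le_basicOpen f hXf i)

/-- finitely many charts trivialise a multiple twist over a quasi-compact open -/
theorem exists_period_invertible (U : P.Opens) (hU : IsCompact (U : Set P)) :
    ∃ d : ℕ, 0 < d ∧ ∀ (n : ℤ), (d : ℤ) ∣ n →
      ∀ (L : P.Modules) (lam : ∀ (V : S.Opens) (hV : IsAffineOpen V),
          L ⟶ (Scheme.Modules.pushforward (RelProj.emb p chart V hV)).obj (GrTwist.twist (𝒮.deg V hV) n)),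
        RelProj.IsRelTwist 𝒮 p chart n L lam → PicF.IsInvertible (L.restrict U.ι) := by
  classical
  have key : ∀ x : P, ∃ (i : Aff S) (e : ℕ) (f : 𝒮.presheaf.obj (op i.1)) (_ : 0 < e) (_ : f ∈ 𝒮.deg i.1 i.2 e),
      x ∈ RelProj.emb p chart i.1 i.2 ''ᵁ Proj.basicOpen (𝒮.deg i.1 i.2) f := fun x => by
    obtain ⟨V, hV, hxV⟩ := exists_chart_open (p := p) x
    obtain ⟨y, rfl⟩ := (MiscFlat6.emb_opensRange (chart := chart) V hV).ge hxV
    obtain ⟨e, f, he, hf, hy⟩ := exists_pos_not_mem (𝒮.deg V hV) y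
    exact ⟨⟨V, hV⟩, e, f, he, hf, ⟨y, hy, rfl⟩⟩
  choose i e f he hf hxf using key
  obtain ⟨T, hT⟩ := hU.elim_finite_subcover
    (fun x => (RelProj.emb p chart (i x).1 (i x).2 ''ᵁ Proj.basicOpen (𝒮.deg (i x).1 (i x).2) (f x) : Set P))
    (fun x => (RelProj.emb p chart (i x).1 (i x).2 ''ᵁ Proj.basicOpen (𝒮.deg (i x).1 (i x).2) (f x)).2)
    fun x _ => Set.mem_iUnion.mpr ⟨x, hxf x⟩
  refine ⟨∏ x ∈ T, e x, Finset.prod_pos fun x _ => he x, fun n hn L lam hL z => ?_⟩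
  obtain ⟨x, hxT, hzx⟩ := Set.mem_iUnion₂.mp (hT z.2)
  obtain ⟨m, hm⟩ : (e x : ℤ) ∣ n :=
    dvd_trans (by exact_mod_cast Finset.dvd_prod_of_mem e hxT) hn
  rw [mul_comm] at hm
  subst hm
  let Z : P.Opens := RelProj.emb p chart (i x).1 (i x).2 ''ᵁ Proj.basicOpen (𝒮.deg (i x).1 (i x).2) (f x)
  have hle : Z ≤ p ⁻¹ᵁ (i x).1 :=
    ((RelProj.emb p chart (i x).1 (i x).2).image_le_opensRange _).trans (MiscFlat6.emb_opensRange (chart := chart) _ _).le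
  obtain ⟨σ, hσ⟩ := (hL.bijective (i x).1 (i x).2 Z hle).2
    (AmpleLib.res (GrTwist.twist (𝒮.deg (i x).1 (i x).2) (m * (e x : ℤ)))
      ((RelProj.emb p chart (i x).1 (i x).2).preimage_image_eq (Proj.basicOpen (𝒮.deg (i x).1 (i x).2) (f x))).le
      (powUnit _ (hf x) m).sec)
  have hgen : AmpleLib.GenOn L σ := by
    intro W hW
    let em := RelProj.emb p chart (i x).1 (i x).2
    haveI : IsIso (em.app W) := em.isIso_app W ((hW.trans hle).trans (MiscFlat6.emb_opensRange (chart := chart) _ _).ge)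
    have hb1 : Function.Bijective (em.app W) := ConcreteCategory.bijective_of_isIso (em.app W)
    have hb2 := (powUnit _ (hf x) m).genOn (em ⁻¹ᵁ W) ((em.preimage_mono hW).trans (em.preimage_image_eq _).le)
    refine ((hL.bijective (i x).1 (i x).2 W (hW.trans hle)).of_comp_iff' _).mp ?_
    refine (congrArg Function.Bijective (funext fun r => ?_)).mpr (hb2.comp hb1)
    show (lam (i x).1 (i x).2).app W (r • AmpleLib.res L hW σ) = _
    rw [QCohLib.app_smul]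
    refine congrArg (fun z => r • z) ((QCohLib.app_map (lam (i x).1 (i x).2) (homOfLE hW) σ).trans ?_)
    rw [hσ]
    exact GrTwistLib.sec_ext fun y => rfl
  have h1 : U.ι ''ᵁ (U.ι ⁻¹ᵁ Z) ≤ Z := U.ι.image_preimage_le Z
  exact ⟨U.ι ⁻¹ᵁ Z, hzx, GrTwistLib.nonempty_iso_of_genOn _ (hgen.restrict U.ι (U.ι ⁻¹ᵁ Z) h1)⟩

end GrModLib6

end
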