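import Groth.Agent.GrModLib6.RelExist
import Groth.Agent.GrModLib6.FT

/-!
# A vanishing sheaf of a graded module: vanishing in high degrees
-/

set_option autoImplicit false
universe u

open CategoryTheory CategoryTheory.Limits AlgebraicGeometry TopologicalSpace Opposite TopCat HomogeneousLocalization
open scoped HomogeneousIdeal

noncomputable section

namespace GrModLib6

open scoped Classical in
/-- in degree `l` one is in the `l`-th power of the ideal of degree-one elements -/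
theorem mem_span_pow_of_genDegOne {A σ : Type u} [CommRing A] [SetLike σ A] [AddSubgroupClass σ A] (𝒜 : ℕ → σ)
    [GradedRing 𝒜] (hgen : Subring.closure ((𝒜 0 : Set A) ∪ (𝒜 1 : Set A)) = ⊤) {l : ℕ} {x : A} (hx : x ∈ 𝒜 l) :
    x ∈ Ideal.span (𝒜 1 : Set A) ^ l := by
  suffices key : ∀ (x : A), x ∈ Subring.closure ((𝒜 0 : Set A) ∪ (𝒜 1 : Set A)) →
      ∀ l, (DirectSum.decompose 𝒜 x l : A) ∈ Ideal.span (𝒜 1 : Set A) ^ l by
    have := key x (hgen ▸ Subring.mem_top x) l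
    rwa [DirectSum.decompose_of_mem_same 𝒜 hx] at this
  intro x hx'
  induction hx' using Subring.closure_induction with
  | mem y hy =>
    intro l
    rcases hy with hy | hy
    · by_cases hl : l = 0
      · subst hl; simp
      · rw [DirectSum.decompose_of_mem_ne 𝒜 hy (Ne.symm hl)]; exact zero_mem _
    · by_cases hl : l = 1
      · subst hl
        rw [pow_one, DirectSum.decompose_of_mem_same 𝒜 hy]
        exact Ideal.subset_span hy
      · rw [DirectSum.decompose_of_mem_ne 𝒜 hy (Ne.symm hl)]; exact zero_mem _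
  | zero => intro l; simp
  | one =>
    intro l
    by_cases hl : l = 0
    · subst hl; simp
    · rw [DirectSum.decompose_of_mem_ne 𝒜 SetLike.GradedOne.one_mem (Ne.symm hl)]; exact zero_mem _
  | add y z _ _ hy hz =>
    intro l
    rw [DirectSum.decompose_add, DirectSum.add_apply, AddMemClass.coe_add]
    exact add_mem (hy l) (hz l)
  | neg y _ hy =>
    intro l
    rw [DirectSum.decompose_neg, show ((-DirectSum.decompose 𝒜 y) l) = -(DirectSum.decompose 𝒜 y l) from rfl,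
      NegMemClass.coe_neg]
    exact neg_mem (hy l)
  | mul y z _ _ hy hz =>
    intro l
    rw [DirectSum.decompose_mul, DirectSum.coe_mul_apply]
    refine Submodule.sum_mem _ fun ij hij => ?_
    have e : ij.1 + ij.2 = l := (Finset.mem_filter.mp hij).2
    rw [← e, pow_add]
    exact Ideal.mul_mem_mul (hy _) (hz _)

variable {A σ : Type u} [CommRing A] [SetLike σ A] [AddSubgroupClass σ A] {𝒜 : ℕ → σ} [GradedRing 𝒜]
  {M τ : Type u} [AddCommGroup M] [Module A M] [SetLike τ M] [AddSubgroupClass τ M] {ℳ : ℕ → τ}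
  [SetLike.GradedSMul 𝒜 ℳ] [DirectSum.Decomposition ℳ]

open scoped Classical in
/-- the homogeneous coefficients of a homogeneous combination -/
theorem exists_homogeneous_coeff {s : Finset M} {deg : M → ℕ} (hdeg : ∀ z ∈ s, z ∈ ℳ (deg z)) {k : ℕ} {m : M}
    (hm : m ∈ ℳ k) (h : m ∈ Submodule.span A (s : Set M)) :
    ∃ a : M → A, (∀ z ∈ s, deg z ≤ k → a z ∈ 𝒜 (k - deg z)) ∧ m = ∑ z ∈ s with deg z ≤ k, a z • z := by
  obtain ⟨c, -, hc⟩ := Submodule.mem_span_finset.mp h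
  refine ⟨fun z => (DirectSum.decompose 𝒜 (c z) (k - deg z) : A), fun z _ _ => SetLike.coe_mem _, ?_⟩
  rw [← DirectSum.decompose_of_mem_same ℳ hm]
  conv_lhs => rw [← hc, DirectSum.decompose_sum, DFinsupp.finsetSum_apply, AddSubmonoidClass.coe_finsetSum]
  rw [Finset.sum_filter]
  refine Finset.sum_congr rfl fun z hz => ?_
  by_cases hle : deg z ≤ k
  · rw [if_pos hle, ← decompose_smul 𝒜 ℳ (hdeg z hz), Nat.sub_add_cancel hle]
  · rw [if_neg hle]
    generalize c z = b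
    induction b using DirectSum.Decomposition.inductionOn (ℳ := 𝒜) with
    | zero => simp
    | @homogeneous l a =>
      have h1 : (a : A) • z ∈ ℳ (l + deg z) := SetLike.GradedSMul.smul_mem a.2 (hdeg z hz)
      rw [DirectSum.decompose_of_mem_ne ℳ h1 (by omega)]
    | add a b ha hb =>
      rw [add_smul, DirectSum.decompose_add, DirectSum.add_apply, AddMemClass.coe_add, ha, hb, add_zero]

open scoped Classical in
/-- a tail of finite type with zero sheaf vanishes in high degrees -/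
theorem exists_tn_of_isZero (hgen : Subring.closure ((𝒜 0 : Set A) ∪ (𝒜 1 : Set A)) = ⊤) {T : Finset A}
    (hT : (T : Set A) ⊆ (𝒜 1 : Set A)) (hspan : (𝒜 1 : Set A) ⊆ Ideal.span (T : Set A)) {N : ℕ}
    (hTF : (Submodule.span A (⋃ k ∈ Set.Ici N, (ℳ k : Set M))).FG)
    (h0 : ∀ (V : (Proj 𝒜).Opens) (s : Γ(GrMod.tilde 𝒜 ℳ 0, V)), s = 0) :
    ∃ n : ℕ, ∀ k, n ≤ k → ∀ m ∈ ℳ k, m = 0 := by
  obtain ⟨s, hs, he⟩ := (Submodule.fg_span_iff_fg_span_finset_subset _).mp hTF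
  have hs' : ∀ z ∈ s, ∃ k, z ∈ ℳ k := fun z hz => by
    obtain ⟨k, -, hzk⟩ := Set.mem_iUnion₂.mp (hs hz)
    exact ⟨k, hzk⟩
  choose! deg hdeg using hs'
  have hkill : ∀ z ∈ s, ∃ M₀ : ℕ, Ideal.span (T : Set A) ^ M₀ ≤ (LinearMap.toSpanSingleton A M z).ker := by
    intro z hz
    refine Ideal.exists_pow_le_of_le_radical_of_fg (Ideal.span_le.mpr fun t ht => ?_) ⟨T, rfl⟩
    obtain ⟨M₀, hM₀⟩ := exists_pow_smul_eq_zero 𝒜 ℳ one_pos (hT ht) (hdeg z hz) (fun x hx => by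
      have hv := congrArg (fun σ' => val σ' (⟨x, hx⟩ : Proj.basicOpen 𝒜 t))
        (h0 (Proj.basicOpen 𝒜 t) (fracSec (hdeg z hz) (SetLike.pow_mem_graded (deg z) (hT ht))
          (by simp) (fun y => pow_nin y _)))
      exact ⟨_, hv⟩)
    exact ⟨M₀, hM₀⟩
  choose! M₀ hM₀ using hkill
  refine ⟨N + s.sup deg + s.sup M₀, fun k hk m hm => ?_⟩
  obtain ⟨a, ha, hsum⟩ := exists_homogeneous_coeff (𝒜 := 𝒜) hdeg hm
    (he ▸ Submodule.subset_span (Set.mem_biUnion (show N ≤ k by omega) hm))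
  rw [hsum]
  refine Finset.sum_eq_zero fun z hz => ?_
  obtain ⟨hz, hle⟩ := Finset.mem_filter.mp hz
  have h1 : deg z ≤ s.sup deg := Finset.le_sup (f := deg) hz
  have h2 : M₀ z ≤ s.sup M₀ := Finset.le_sup (f := M₀) hz
  have h3 := Ideal.pow_right_mono (Ideal.span_le.mpr hspan) _ (mem_span_pow_of_genDegOne 𝒜 hgen (ha z hz hle))
  exact hM₀ z hz (Ideal.pow_le_pow_right (by omega) h3)

/-! ## The relative statement -/

variable {S P : Scheme.{u}} {𝒮 : RelProj.QCGrAlg S} {p : P ⟶ S}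
  {chart : ∀ (U : S.Opens) (hU : IsAffineOpen U), (((p ⁻¹ᵁ U : P.Opens) : Scheme.{u}) ≅ Proj (𝒮.deg U hU))}

omit [SetLike.GradedSMul 𝒜 ℳ] [DirectSum.Decomposition ℳ] in
theorem isTN_of_isZero [CompactSpace S] (hgen : 𝒮.IsGenDegOne) (hft : 𝒮.IsFTDeg 1) {𝓜 : RelProj.GrModule 𝒮}
    (h𝓜 : Coh.IsQCoh ((AMod.toOS 𝒮.toQCAlg).obj 𝓜.mod)) (hTF : 𝓜.IsTF) {F : P.Modules}
    {lam : ∀ (U : S.Opens) (hU : IsAffineOpen U),
      F ⟶ (Scheme.Modules.pushforward (RelProj.emb p chart U hU)).obj (GrMod.tilde (𝒮.deg U hU) (𝓜.deg U hU) 0)}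
    (hF : RelProj.IsRelTilde 𝒮 p chart 𝓜 0 F lam) (h0 : IsZero F) : 𝓜.IsTN := by
  classical
  obtain ⟨N, hN⟩ := hTF
  have hloc : ∀ i : Aff S, ∃ n : ℕ, ∀ k, n ≤ k → ∀ m ∈ 𝓜.deg i.1 i.2 k, m = 0 := fun i => by
    obtain ⟨T, hT, hspan⟩ := hft i.1 i.2
    refine exists_tn_of_isZero (hgen i.1 i.2) hT (fun x hx => ?_) (hN i.1 i.2) fun V s => ?_
    · obtain ⟨c, hc⟩ := hspan x hx
      rw [hc]
      exact Submodule.sum_mem _ fun t ht => Ideal.mul_mem_left _ _ (Ideal.subset_span ht)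
    · let e := RelProj.emb p chart i.1 i.2
      have hle : e ''ᵁ V ≤ p ⁻¹ᵁ i.1 := (e.image_le_opensRange V).trans (MiscFlat6.emb_opensRange i.1 i.2).le
      let T' := GrMod.tilde (𝒮.deg i.1 i.2) (𝓜.deg i.1 i.2) 0
      obtain ⟨a, ha⟩ := (hF.bijective i.1 i.2 (e ''ᵁ V) hle).2
        (T'.presheaf.map (eqToHom (e.preimage_image_eq V)).op s)
      have hz : a = 0 := by
        have h1 := congr_arg (fun φ : F ⟶ F => φ.app (e ''ᵁ V) a) ((IsZero.iff_id_eq_zero F).mp h0)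
        simpa using h1
      rw [hz, map_zero] at ha
      exact (injective_iff_map_eq_zero (T'.presheaf.map (eqToHom (e.preimage_image_eq V)).op).hom).mp
        (ConcreteCategory.bijective_of_isIso _).1 s ha.symm
  choose n hn using hloc
  obtain ⟨T, hT⟩ := isCompact_univ.elim_finite_subcover (fun i : Aff S => (i.1 : Set S)) (fun i => i.1.2)
    fun x _ => by
      obtain ⟨U, hU, hxU, -⟩ := exists_isAffineOpen_mem_and_subset (TopologicalSpace.Opens.mem_top x)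
      exact Set.mem_iUnion.mpr ⟨⟨U, hU⟩, hxU⟩
  refine ⟨T.sup n, fun V hV k hk m hm => ?_⟩
  let Mo : S.Modules := (AMod.toOS 𝒮.toQCAlg).obj 𝓜.mod
  refine eq_zero_of_locally (F := Mo) (show Γ(Mo, V) from m) fun x hx => ?_
  obtain ⟨i, hiT, hxi⟩ := Set.mem_iUnion₂.mp (hT (Set.mem_univ x))
  obtain ⟨j, hij, hVj, hxj⟩ := exists_isBasic_inter (i := i) (j := ⟨V, hV⟩) hxi hx
  refine ⟨j.1, hVj.le, hxj, ?_⟩
  show 𝓜.res hV j.2 hVj.le m = 0
  have hmj : 𝓜.res hV j.2 hVj.le m ∈ 𝓜.deg j.1 j.2 k := 𝓜.res_mem hV j.2 hVj.le k m hm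
  obtain ⟨c, hc⟩ := isInverting_res 𝓜 h𝓜 hij
  generalize 𝓜.res hV j.2 hVj.le m = q at hmj ⊢
  obtain ⟨l, m', hm'⟩ := hc.surjN q
  have hq : 𝒮.res i.2 j.2 hij.le c ^ l • q ∈ 𝓜.deg j.1 j.2 k := by
    have h1 : 𝒮.res i.2 j.2 hij.le c ^ l • q ∈ 𝓜.deg j.1 j.2 (l • 0 + k) :=
      SetLike.GradedSMul.smul_mem (A := 𝒮.deg j.1 j.2)
        (SetLike.pow_mem_graded l ((𝒮.res i.2 j.2 hij.le).map_mem hc.mem)) hmj
    simpa using h1
  let mk : 𝓜.mod.val.obj (op i.1) := DirectSum.decompose (𝓜.deg i.1 i.2) m' k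
  have hmk : mk = 0 := hn i k (le_trans (Finset.le_sup (f := n) hiT) hk) mk (SetLike.coe_mem _)
  have hdec : ∀ m'' : 𝓜.mod.val.obj (op i.1),
      𝓜.res i.2 j.2 hij.le (DirectSum.decompose (𝓜.deg i.1 i.2) m'' k : 𝓜.mod.val.obj (op i.1)) =
        (DirectSum.decompose (𝓜.deg j.1 j.2) (𝓜.res i.2 j.2 hij.le m'') k : 𝓜.mod.val.obj (op j.1)) := by
    intro m''
    induction m'' using DirectSum.Decomposition.inductionOn (ℳ := 𝓜.deg i.1 i.2) with
    | zero =>
      rw [DirectSum.decompose_zero, (𝓜.res i.2 j.2 hij.le).map_zero, DirectSum.decompose_zero]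
      exact map_zero _
    | @homogeneous d a =>
      have ha := 𝓜.res_mem i.2 j.2 hij.le d a a.2
      by_cases h : d = k
      · subst h
        rw [DirectSum.decompose_of_mem_same _ a.2, DirectSum.decompose_of_mem_same _ ha]
      · rw [DirectSum.decompose_of_mem_ne _ a.2 h, DirectSum.decompose_of_mem_ne _ ha h, map_zero]
    | add a b ha hb =>
      simp only [DirectSum.decompose_add, DirectSum.add_apply, AddMemClass.coe_add, map_add, ha, hb]
  have hres : 𝓜.res i.2 j.2 hij.le mk = 𝒮.res i.2 j.2 hij.le c ^ l • q := by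
    rw [← DirectSum.decompose_of_mem_same (𝓜.deg j.1 j.2) hq, ← hm']
    exact hdec m'
  rw [hmk, map_zero] at hres
  exact (hc.unit.pow l).smul_eq_zero.mp hres.symm

end GrModLib6

end
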